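import Groth.Agent.AlgSpLib.Bootstrap
import Groth.Agent.AlgSpLib.EqvQuot
import Mathlib.AlgebraicGeometry.Morphisms.FlatMono
import Groth.Prelude.Def_Grpd
import Groth.Agent.AlgSpLib.LqfScheme

/-!
# General lemmas for the fppf bootstrap
-/

set_option autoImplicit false
set_option linter.style.haveILetI false
set_option backward.isDefEq.respectTransparency.types false

universe u

open CategoryTheory CategoryTheory.Limits AlgebraicGeometry
open AlgSp

noncomputable section

namespace Groth.Agent.Stk19b.Fppf

open Groth.Agent.AlgSpLib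

/-- closed immersions are fppf local on the target -/
theorem isLocalAtTarget_isClosedImmersion :
    MorphismProperty.IsLocalAtTarget @IsClosedImmersion.{u} Scheme.fppfPrecoverage :=
  haveI := Et18.descends_isClosedImmersion.{u}
  isLocalAtTarget_fppf _

variable {S : Scheme.{u}}

/-- representable monomorphisms which are etale are open immersions -/
theorem repWith_isOpenImmersion_of_etale_mono {F G : Sp S} {f : F ⟶ G} [Mono f] (h : RepWith @Etale f) :
    RepWith @IsOpenImmersion f := by
  refine ⟨h.1, fun {a b} g fst snd sq => ?_⟩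
  have h1 : Etale snd.left := h.2 g fst snd sq
  have hm : Mono ((yon S).map snd) :=
    MorphismProperty.of_isPullback (P := MorphismProperty.monomorphisms (Sp S)) sq ‹Mono f›
  have : Mono snd := (yon S).mono_of_mono_map hm
  have : Mono snd.left := (inferInstance : Mono ((Over.forget S).map snd))
  exact IsOpenImmersion.of_flat_of_mono snd.left

variable {X₁ X F : Sp S} (π : X₁ ⟶ X) (m : X ⟶ F)

/-- The map on self-products induced by a cover. -/
def prodCover : pullback (π ≫ m) (π ≫ m) ⟶ pullback m m :=
  pullback.map (π ≫ m) (π ≫ m) m m π π (𝟙 _) (by rw [Category.comp_id]) (by rw [Category.comp_id])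

theorem isLocallySurjective_prodCover (hπf : RepWith @Flat π) (hπl : RepWith @LocallyOfFinitePresentation π)
    (hπs : RepWith @Surjective π) : Sheaf.IsLocallySurjective (prodCover π m) := by
  have hP : (RepWith (S := S) (@Flat ⊓ @LocallyOfFinitePresentation ⊓ @Surjective)) π :=
    RepWith.and (RepWith.and hπf hπl) hπs
  have := MorphismProperty.pullbackMap
    (P := (RepWith (S := S) (@Flat ⊓ @LocallyOfFinitePresentation ⊓ @Surjective)))
    (f := π ≫ m) (g := π ≫ m) (f' := m) (g' := m) (i₁ := π) (i₂ := π) hP hP rfl rfl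
  exact isLocallySurjective_of_repWith (RepWith.mono (fun _ _ k hk => hk.1.1) this)
    (RepWith.mono (fun _ _ k hk => hk.1.2) this) (RepWith.mono (fun _ _ k hk => hk.2) this)

/-- the diagonal over a cover -/
theorem isPullback_diag_prodCover {R : Sp S} {t s : R ⟶ X₁} (sq : IsPullback t s π π)
    (j : R ⟶ pullback (π ≫ m) (π ≫ m)) (hj₁ : j ≫ pullback.fst _ _ = t) (hj₂ : j ≫ pullback.snd _ _ = s) :
    IsPullback (t ≫ π) j (pullback.diagonal m) (prodCover π m) := by
  have k₁ : prodCover π m ≫ pullback.fst m m = pullback.fst _ _ ≫ π := pullback.lift_fst _ _ _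
  have k₂ : prodCover π m ≫ pullback.snd m m = pullback.snd _ _ ≫ π := pullback.lift_snd _ _ _
  refine isPullback_of_yon ?_ fun T x w e => ?_
  · apply pullback.hom_ext
    · rw [Category.assoc, Category.assoc, pullback.diagonal_fst, Category.assoc, k₁, reassoc_of% hj₁,
        Category.comp_id]
    · rw [Category.assoc, Category.assoc, pullback.diagonal_snd, Category.assoc, k₂, reassoc_of% hj₂,
        Category.comp_id, sq.w]
  · have e₁ : (w ≫ pullback.fst _ _) ≫ π = x := by
      have := congrArg (· ≫ pullback.fst m m) e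
      simp only [Category.assoc, pullback.diagonal_fst, Category.comp_id, k₁] at this
      rw [Category.assoc, ← this]
    have e₂ : (w ≫ pullback.snd _ _) ≫ π = x := by
      have := congrArg (· ≫ pullback.snd m m) e
      simp only [Category.assoc, pullback.diagonal_snd, Category.comp_id, k₂] at this
      rw [Category.assoc, ← this]
    refine ⟨sq.lift _ _ (e₁.trans e₂.symm), ⟨by rw [← Category.assoc, sq.lift_fst, e₁], ?_⟩, ?_⟩
    · apply pullback.hom_ext
      · rw [Category.assoc, hj₁, sq.lift_fst]
      · rw [Category.assoc, hj₂, sq.lift_snd]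
    · rintro l ⟨-, hl⟩
      refine sq.hom_ext ?_ ?_
      · rw [sq.lift_fst, ← hl, Category.assoc, hj₁]
      · rw [sq.lift_snd, ← hl, Category.assoc, hj₂]

/-- properties of the diagonal descend along a cover -/
theorem repWith_diagonal_of_cover (hπf : RepWith @Flat π) (hπl : RepWith @LocallyOfFinitePresentation π)
    (hπs : RepWith @Surjective π) (hdX : Representable (Limits.diag X)) {R : Sp S} {t s : R ⟶ X₁}
    (sq : IsPullback t s π π) (P : MorphismProperty Scheme.{u})
    [P.IsLocalAtTarget Scheme.fppfPrecoverage] (j : R ⟶ pullback (π ≫ m) (π ≫ m))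
    (hj₁ : j ≫ pullback.fst _ _ = t) (hj₂ : j ≫ pullback.snd _ _ = s) (hj : RepWith P j) :
    RepWith P (pullback.diagonal m) := by
  have := isLocallySurjective_prodCover π m hπf hπl hπs
  let i : pullback m m ⟶ X ⨯ X := prod.lift (pullback.fst _ _) (pullback.snd _ _)
  have i₁ : i ≫ prod.fst = pullback.fst m m := prod.lift_fst _ _
  have i₂ : i ≫ prod.snd = pullback.snd m m := prod.lift_snd _ _
  have : Mono i := ⟨fun a b e => pullback.hom_ext (by rw [← i₁, reassoc_of% e]) (by rw [← i₂, reassoc_of% e])⟩
  have hr : Representable (pullback.diagonal m) := by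
    refine representable_of_comp_mono _ i ?_
    rw [show pullback.diagonal m ≫ i = Limits.diag X by
      apply Limits.prod.hom_ext
      · rw [Category.assoc, i₁, pullback.diagonal_fst, Limits.diag, prod.lift_fst]
      · rw [Category.assoc, i₂, pullback.diagonal_snd, Limits.diag, prod.lift_snd]]
    exact hdX
  exact repWith_of_isLocallySurjective hr (prodCover π m) (isPullback_diag_prodCover π m sq j hj₁ hj₂) P hj

/-- an equivalence relation is a groupoid -/
theorem exists_groupoid_data {R U : Over S} {s t : R ⟶ U} (h : IsEqvRel s t) :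
    ∃ (e : U.left ⟶ R.left) (i : R.left ⟶ R.left) (c : pullback s.left t.left ⟶ R.left),
      (∀ {T : Scheme.{u}} (α β : T ⟶ R.left) (h : α ≫ s.left = β ≫ t.left),
        (pullback.lift α β h ≫ c) ≫ s.left = β ≫ s.left ∧ (pullback.lift α β h ≫ c) ≫ t.left = α ≫ t.left) ∧
      e ≫ s.left = 𝟙 _ ∧ e ≫ t.left = 𝟙 _ ∧ i ≫ s.left = t.left ∧ i ≫ t.left = s.left := by
  obtain ⟨e, het, hes⟩ : ∃ e : U.left ⟶ R.left, e ≫ t.left = 𝟙 _ ∧ e ≫ s.left = 𝟙 _ := by
    obtain ⟨r, h₁, h₂⟩ := (h.equivalence U).refl (𝟙 U)
    exact ⟨r.left, congrArg (fun k => k.left) h₁, congrArg (fun k => k.left) h₂⟩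
  obtain ⟨i, hit, his⟩ : ∃ i : R.left ⟶ R.left, i ≫ t.left = s.left ∧ i ≫ s.left = t.left := by
    obtain ⟨r, h₁, h₂⟩ := (h.equivalence R).symm ⟨𝟙 R, Category.id_comp t, Category.id_comp s⟩
    exact ⟨r.left, congrArg (fun k => k.left) h₁, congrArg (fun k => k.left) h₂⟩
  let P : Over S := Over.mk (pullback.fst s.left t.left ≫ R.hom)
  let α : P ⟶ R := Over.homMk (pullback.fst _ _)
  let β : P ⟶ R := Over.homMk (pullback.snd _ _) (by
    show pullback.snd s.left t.left ≫ R.hom = pullback.fst s.left t.left ≫ R.hom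
    conv_lhs => rw [← Over.w t, ← pullback.condition_assoc, Over.w s])
  obtain ⟨c, hct, hcs⟩ : ∃ c : pullback s.left t.left ⟶ R.left,
      c ≫ t.left = pullback.fst _ _ ≫ t.left ∧ c ≫ s.left = pullback.snd _ _ ≫ s.left := by
    obtain ⟨r, h₁, h₂⟩ := (h.equivalence P).trans ⟨α, rfl, rfl⟩
      ⟨β, (Over.OverMorphism.ext pullback.condition.symm : β ≫ t = α ≫ s), rfl⟩
    exact ⟨r.left, congrArg (fun k => k.left) h₁, congrArg (fun k => k.left) h₂⟩
  refine ⟨e, i, c, fun α β h => ⟨?_, ?_⟩, hes, het, his, hit⟩
  · rw [Category.assoc, hcs, pullback.lift_snd_assoc]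
  · rw [Category.assoc, hct, pullback.lift_fst_assoc]

theorem eqvRel_hom_ext {R U : Over S} {s t : R ⟶ U} (h : IsEqvRel s t) {T : Scheme.{u}} {a b : T ⟶ R.left}
    (ht : a ≫ t.left = b ≫ t.left) (hs : a ≫ s.left = b ≫ s.left) : a = b := by
  let TT : Over S := Over.mk (a ≫ R.hom)
  have hb : b ≫ R.hom = a ≫ R.hom := by
    rw [← Over.w s, ← Category.assoc, ← Category.assoc, hs]
  exact congrArg (fun k => k.left) (h.injective TT (Over.homMk a) (Over.homMk b hb)
    (Over.OverMorphism.ext ht) (Over.OverMorphism.ext hs))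

/-- The groupoid of an equivalence relation. -/
def grpd {R U : Over S} {s t : R ⟶ U} (h : IsEqvRel s t) : Grpd.GroupoidScheme S where
  U := U.left
  R := R.left
  pU := U.hom
  pR := R.hom
  s := s.left
  t := t.left
  e := (exists_groupoid_data h).choose
  i := (exists_groupoid_data h).choose_spec.choose
  c := (exists_groupoid_data h).choose_spec.choose_spec.choose
  s_over := Over.w s
  t_over := Over.w t
  comp_s α β hab := ((exists_groupoid_data h).choose_spec.choose_spec.choose_spec.1 α β hab).1
  comp_t α β hab := ((exists_groupoid_data h).choose_spec.choose_spec.choose_spec.1 α β hab).2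
  assoc α β γ h₁ h₂ := by
    have hc := @(exists_groupoid_data h).choose_spec.choose_spec.choose_spec.1
    apply eqvRel_hom_ext h
    · rw [(hc _ _ _).2, (hc _ _ _).2, (hc _ _ _).2]
    · rw [(hc _ _ _).1, (hc _ _ _).1, (hc _ _ _).1]
  e_s := (exists_groupoid_data h).choose_spec.choose_spec.choose_spec.2.1
  e_t := (exists_groupoid_data h).choose_spec.choose_spec.choose_spec.2.2.1
  comp_e α := by
    obtain ⟨hc, hes, het, -, -⟩ := (exists_groupoid_data h).choose_spec.choose_spec.choose_spec
    apply eqvRel_hom_ext h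
    · rw [(hc _ _ _).2]
    · rw [(hc _ _ _).1, Category.assoc, Category.assoc, hes, Category.comp_id]
  e_comp α := by
    obtain ⟨hc, hes, het, -, -⟩ := (exists_groupoid_data h).choose_spec.choose_spec.choose_spec
    apply eqvRel_hom_ext h
    · rw [(hc _ _ _).2, Category.assoc, Category.assoc, het, Category.comp_id]
    · rw [(hc _ _ _).1]
  i_s := (exists_groupoid_data h).choose_spec.choose_spec.choose_spec.2.2.2.1
  i_t := (exists_groupoid_data h).choose_spec.choose_spec.choose_spec.2.2.2.2
  comp_i α := by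
    obtain ⟨hc, hes, het, his, -⟩ := (exists_groupoid_data h).choose_spec.choose_spec.choose_spec
    apply eqvRel_hom_ext h
    · rw [(hc _ _ _).2, Category.assoc, Category.assoc, het, Category.comp_id]
    · rw [(hc _ _ _).1, Category.assoc, his, Category.assoc, Category.assoc, hes, Category.comp_id]
  i_comp α := by
    obtain ⟨hc, hes, het, -, hit⟩ := (exists_groupoid_data h).choose_spec.choose_spec.choose_spec
    apply eqvRel_hom_ext h
    · rw [(hc _ _ _).2, Category.assoc, hit, Category.assoc, Category.assoc, het, Category.comp_id]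
    · rw [(hc _ _ _).1, Category.assoc, Category.assoc, hes, Category.comp_id]

theorem mono_grpd_j {R U : Over S} {s t : R ⟶ U} (h : IsEqvRel s t) : Mono (grpd h).j := by
  have h₁ : (grpd h).j ≫ pullback.fst (grpd h).pU (grpd h).pU = (grpd h).t := pullback.lift_fst _ _ _
  have h₂ : (grpd h).j ≫ pullback.snd (grpd h).pU (grpd h).pU = (grpd h).s := pullback.lift_snd _ _ _
  refine ⟨fun a b e => eqvRel_hom_ext h ?_ ?_⟩
  · show a ≫ (grpd h).t = b ≫ (grpd h).t
    rw [← h₁, reassoc_of% e]
  · show a ≫ (grpd h).s = b ≫ (grpd h).s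
    rw [← h₂, reassoc_of% e]

end Groth.Agent.Stk19b.Fppf
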