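import Groth.Agent.Stk19b.Fppf.Main
import Groth.Agent.AlgSpLib.EqvQuot
import Groth.Agent.AlgSpLib.FppfEpi
import Groth.Agent.AlgSpLib.FpqcBaseLocP
import Groth.Agent.AlgSpLib.MorProper
import Groth.Agent.AlgSpLib.FppfLocal
import Groth.Agent.AlgSpLib.EtLocalInst

/-!
# Consequences of Artin's theorem
-/

set_option autoImplicit false
set_option linter.style.haveILetI false
set_option backward.isDefEq.respectTransparency.types false

universe u

open CategoryTheory CategoryTheory.Limits AlgebraicGeometry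
open AlgSp Groth.Agent.AlgSpLib

noncomputable section

namespace Groth.Agent.Stk19b.Fppf

variable {S : Scheme.{u}}

/-- a schematic fppf cover is an fppf cover representable by algebraic spaces -/
theorem repBySpWith_of_repWith {X F : Sp S} {p : X ⟶ F}
    (hf : RepWith @Flat p) (hl : RepWith @LocallyOfFinitePresentation p) (hs : RepWith @Surjective p) :
    RepBySpWith (IsSurjectiveMor ⊓ LocP @Flat ⊓ LocP @LocallyOfFinitePresentation) p.hom := by
  have := etLocal_flat.{u}
  refine (repBySpWith_hom_iff _ _).2 fun T ξ F' fst snd sq => ?_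
  have hF' : IsAlgSpace F' := (IsAlgSpace.yon_obj (hf.1.pullback ξ)).of_iso
    ((hf.1.isPullback ξ).isoIsPullback _ _ sq)
  exact ⟨hF', ⟨surjective_map_of_repWith (RepWith.baseChange sq hs),
    locP_of_repWith etLocal_flat hF' (RepWith.baseChange sq hf)⟩,
    locP_of_repWith etLocal_lfp hF' (RepWith.baseChange sq hl)⟩

/-- quotient of a scheme by an fppf equivalence relation -/
theorem isAlgSpace_quotSp_of_isEqvRel {R U : Over S} {s t : R ⟶ U} (h : IsEqvRel s t) [Flat s.left]
    [LocallyOfFinitePresentation s.left] [LocallyOfFiniteType t.left] :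
    IsAlgSpace (quotSp ((yon S).map s) ((yon S).map t)) := by
  have := etLocal_flat.{u}.localTarget
  have := etLocal_lfp.{u}.localTarget
  exact isAlgSpace_of_fppf_cover (IsAlgSpace.yon_obj U) _
    (repBySpWith_of_repWith (repWith_quotSpπ h @Flat ‹_›)
      (repWith_quotSpπ h @LocallyOfFinitePresentation ‹_›) (repWith_surjective_quotSpπ h))

/-- fppf descent of being an algebraic space along a cover of a scheme -/
theorem isAlgSpace_of_fppf_cover_base {Q P : Sp S} {T V : Over S} (c : V ⟶ T) [Flat c.left]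
    [LocallyOfFinitePresentation c.left] [Surjective c.left] {snd : Q ⟶ (yon S).obj T} {m : P ⟶ Q}
    {b : P ⟶ (yon S).obj V} (sq : IsPullback m b snd ((yon S).map c)) (hP : IsAlgSpace P) :
    IsAlgSpace Q :=
  isAlgSpace_of_fppf_cover hP m (repBySpWith_of_repWith
    (RepWith.baseChange sq.flip ((repWith_yon_map_iff _ _).2 ‹Flat c.left›))
    (RepWith.baseChange sq.flip ((repWith_yon_map_iff _ _).2 ‹LocallyOfFinitePresentation c.left›))
    (RepWith.baseChange sq.flip ((repWith_yon_map_iff _ _).2 ‹Surjective c.left›)))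

/-- an epimorphism of sheaves lifts along a single fppf cover -/
theorem exists_fppf_cover_lift {U M : Sp S} (q : U ⟶ M) [Epi q] {T : Over S}
    (a : (yon S).obj T ⟶ M) :
    ∃ (V : Over S) (c : V ⟶ T), Flat c.left ∧ LocallyOfFinitePresentation c.left ∧
      Surjective c.left ∧ ∃ x : (yon S).obj V ⟶ U, x ≫ q = (yon S).map c ≫ a := by
  choose W c hcf hcp hcs t ht using exists_fppf_lift q
    ((Sheaf.isLocallySurjective_iff_epi' (Type (u + 1)) _).2 inferInstance) a
  let π : sigmaOver W ⟶ T :=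
    Over.homMk (Sigma.desc fun x => (c x).left) (Sigma.hom_ext _ _ fun x => by simp [sigmaOver])
  obtain ⟨x, hx, -⟩ := existsUnique_desc_sigma W t
  have hι : ∀ i, sigmaOverι W i ≫ π = c i := fun i => Over.OverMorphism.ext (Sigma.ι_desc _ _)
  refine ⟨_, π, IsZariskiLocalAtSource.sigmaDesc hcf, IsZariskiLocalAtSource.sigmaDesc hcp,
    ⟨fun z => ?_⟩, x, ?_⟩
  · obtain ⟨y, hy⟩ := hcs z
    refine ⟨(sigmaOverι W z).left y, ?_⟩
    rw [← Scheme.Hom.comp_apply, ← Over.comp_left, hι]; exact hy
  · refine (existsUnique_desc_sigma W fun i => t i ≫ q).unique (fun i => ?_) fun i => ?_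
    · rw [← Category.assoc, hx]
    · rw [← Category.assoc, ← Functor.map_comp, hι, ht]

/-- quotient of an algebraic space by an fppf equivalence relation -/
theorem isAlgSpace_quotSp {R U : Sp S} (hR : IsAlgSpace R) (hU : IsAlgSpace U) {s t : R ⟶ U}
    (hj : IsEqvRelSp s t) (hsf : LocP @Flat s) (hsp : LocP @LocallyOfFinitePresentation s) :
    IsAlgSpace (quotSp s t) := by
  have := descends_flat.{u}
  have := etLocal_flat.{u}
  have hepi : Epi (quotSpπ s t) := inferInstanceAs (Epi (coequalizer.π s t))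
  refine isAlgSpace_of_fppf_cover hU (quotSpπ s t)
    ((repBySpWith_hom_iff _ _).2 fun T ξ F' fst snd sq => ?_)
  have key : ∀ {Z V : Over S} (c : V ⟶ Z) (g : (yon S).obj Z ⟶ quotSp s t)
      (x : (yon S).obj V ⟶ U), x ≫ quotSpπ s t = (yon S).map c ≫ g →
      ∀ {Q : Sp S} {qf : Q ⟶ U} {qs : Q ⟶ (yon S).obj Z}, IsPullback qf qs (quotSpπ s t) g →
      ∃ m : pullback s x ⟶ Q, IsPullback m (pullback.snd s x) qs ((yon S).map c) ∧
        IsAlgSpace (pullback s x) ∧
        ∀ {P : MorphismProperty Scheme.{u}}, EtLocal P → LocP P s → LocP P (pullback.snd s x) := by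
    intro Z V c g x hx Q qf qs sqQ
    have K : IsPullback t s (quotSpπ s t) (quotSpπ s t) := isPullback_quotSpπ hj
    have T : IsPullback (pullback.fst s x ≫ t) (pullback.snd s x) (quotSpπ s t)
        ((yon S).map c ≫ g) := by
      rw [← hx]; exact (IsPullback.of_hasPullback s x).paste_horiz K
    let m : pullback s x ⟶ Q := sqQ.lift (pullback.fst s x ≫ t) (pullback.snd s x ≫ (yon S).map c)
      (by rw [T.w, Category.assoc])
    have hA := isAlgSpace_of_isPullback hU.diag hR (IsAlgSpace.yon_obj V)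
      (IsPullback.of_hasPullback s x)
    refine ⟨m, IsPullback.of_right ?_ (sqQ.lift_snd _ _ _) sqQ, hA, fun hP hs =>
      locP_of_isPullback hP hR hU hA (IsPullback.of_hasPullback s x) hs⟩
    rw [show m ≫ qf = pullback.fst s x ≫ t from sqQ.lift_fst _ _ _]
    exact T
  obtain ⟨V, c, hcf, hcp, hcs, x, hx⟩ := exists_fppf_cover_lift (quotSpπ s t) ξ
  obtain ⟨m, hm, hA, -⟩ := key c ξ x hx sq
  have hF' : IsAlgSpace F' := isAlgSpace_of_fppf_cover_base c hm hA
  have hloc : ∀ {P : MorphismProperty Scheme.{u}} [IsZariskiLocalAtTarget P]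
      [P.DescendsAlong Et18.FPQC.{u}], EtLocal P → LocP P s → LocP P snd := by
    intro P _ _ hP hs
    refine locP_of_affine hP hF' (IsAlgSpace.yon_obj T) fun Z hZ g Q qf qs sqQ => ?_
    obtain ⟨V, c, hV, hc, -, hcs, x, -, hx, -⟩ := exists_affine_lift (quotSpπ s t) (g ≫ ξ) (g ≫ ξ)
    obtain ⟨m, hm, hA, hb⟩ := key c (g ≫ ξ) x hx (sqQ.paste_horiz sq)
    have hQ := isAlgSpace_of_isPullback (IsAlgSpace.yon_obj T).diag hF' (IsAlgSpace.yon_obj Z) sqQ
    exact locP_of_fpqc_family hP (m := 1) (V := fun _ => V) (fun _ => c) hZ (fun _ => hV)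
      (fun _ => hc) (fun z => ⟨0, hcs.surj z⟩) hQ (Q := fun _ => pullback s x) (a := fun _ => m)
      (b := fun _ => pullback.snd s x) (fun _ => hm) (fun _ => hb hP hs)
  refine ⟨hF', ⟨?_, hloc etLocal_flat hsf⟩, hloc etLocal_lfp hsp⟩
  intro y
  obtain ⟨z, rfl⟩ := (surjective_map_yon_map_iff c).2 hcs y
  exact ⟨Points.map (sq.lift x ((yon S).map c) hx) z, by rw [← Points.map_comp, sq.lift_snd]⟩

/-- a jointly surjective family of charts gives a chart by their coproduct -/
theorem exists_chart_of_family {F : Sp S} {ι : Type u} (U : ι → Over S)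
    (p : ∀ i, (yon S).obj (U i) ⟶ F) (hf : ∀ i, RepWith @Flat (p i))
    (hl : ∀ i, RepWith @LocallyOfFinitePresentation (p i))
    (hs : ∀ x : Points F, ∃ i, x ∈ Set.range (Points.map (p i))) :
    ∃ ψ : (yon S).obj (sigmaOver U) ⟶ F, (∀ i, (yon S).map (sigmaOverι U i) ≫ ψ = p i) ∧
      RepWith @Flat ψ ∧ RepWith @LocallyOfFinitePresentation ψ ∧ RepWith @Surjective ψ := by
  obtain ⟨ψ, hψ, -⟩ := existsUnique_desc_sigma U p
  have hι : ∀ i, RepWith @IsOpenImmersion ((yon S).map (sigmaOverι U i)) := fun i =>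
    (repWith_yon_map_iff _ _).2 inferInstance
  have hcov : ∀ x : Points ((yon S).obj (sigmaOver U)),
      ∃ i, x ∈ Set.range (Points.map ((yon S).map (sigmaOverι U i))) := fun x => by
    obtain ⟨t, rfl⟩ := (Points.schemeHomeo (sigmaOver U)).surjective x
    obtain ⟨i, y, hy⟩ := exists_mem_range_sigmaOverι U t
    refine ⟨i, Points.schemeHomeo _ y, ?_⟩
    show Points.map _ (Points.ofScheme _ y) = Points.ofScheme _ t
    rw [map_yon_map_ofScheme, hy]
  have h1 : RepWith @Flat ψ :=
    repWith_of_open_cover @Flat _ hι hcov ψ fun i => by rw [hψ]; exact hf i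
  refine ⟨ψ, hψ, h1,
    repWith_of_open_cover @LocallyOfFinitePresentation _ hι hcov ψ fun i => by rw [hψ]; exact hl i,
    repWith_surjective_of_surjective_map h1.1 fun x => ?_⟩
  obtain ⟨i, y, rfl⟩ := hs x
  exact ⟨Points.map ((yon S).map (sigmaOverι U i)) y, by rw [← Points.map_comp, hψ]⟩

/-- being an algebraic space is fppf local on an algebraic space -/
theorem isAlgSpace_of_cover_pullbacks {X : Sp S} (hX : IsAlgSpace X) {F : Sp S} (p : F ⟶ X)
    {ι : Type u} {Xi : ι → Sp S} (hXi : ∀ i, IsAlgSpace (Xi i)) (g : ∀ i, Xi i ⟶ X)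
    (hf : ∀ i, LocP @Flat (g i)) (hl : ∀ i, LocP @LocallyOfFinitePresentation (g i))
    (hs : ∀ x : Points X, ∃ i, x ∈ Set.range (Points.map (g i)))
    (h : ∀ i, IsAlgSpace (pullback p (g i))) : IsAlgSpace F := by
  have := etLocal_flat.{u}
  choose U e hee hes using fun i => (hXi i).atlas
  obtain ⟨ψ, hψ, hψf, hψl, hψs⟩ := exists_chart_of_family U (fun i => e i ≫ g i)
    (fun i => repWith_comp_of_locP etLocal_flat hX (hf i) (e i) (hee i))
    (fun i => repWith_comp_of_locP etLocal_lfp hX (hl i) (e i) (hee i)) (fun x => by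
      obtain ⟨i, y, rfl⟩ := hs x
      obtain ⟨z, rfl⟩ := surjective_map_of_repWith (hes i) y
      exact ⟨i, z, Points.map_comp _ _ _⟩)
  have sq := IsPullback.of_hasPullback p ψ
  refine isAlgSpace_of_fppf_cover (X := pullback p ψ) ?_ (pullback.fst p ψ) (repBySpWith_of_repWith
    (RepWith.baseChange sq.flip hψf) (RepWith.baseChange sq.flip hψl) (RepWith.baseChange sq.flip hψs))
  have sqi := fun i => IsPullback.of_hasPullback p (g i)
  have hA : ∀ i, IsAlgSpace (pullback (pullback.snd p (g i)) (e i)) := fun i =>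
    isAlgSpace_of_isPullback (hXi i).diag (h i) (IsAlgSpace.yon_obj _) (IsPullback.of_hasPullback _ _)
  have sqA := fun i => (IsPullback.of_hasPullback (pullback.snd p (g i)) (e i)).paste_horiz (sqi i)
  let j : ∀ i, pullback (pullback.snd p (g i)) (e i) ⟶ pullback p ψ := fun i =>
    sq.lift (pullback.fst _ (e i) ≫ pullback.fst p (g i))
      (pullback.snd _ (e i) ≫ (yon S).map (sigmaOverι U i))
      (by rw [Category.assoc _ _ ψ, hψ, (sqA i).w])
  have sqj : ∀ i, IsPullback (pullback.snd _ (e i)) (j i) ((yon S).map (sigmaOverι U i))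
      (pullback.snd p ψ) := fun i =>
    (IsPullback.of_right (by rw [sq.lift_fst, hψ]; exact sqA i) (sq.lift_snd _ _ _) sq).flip
  refine isAlgSpace_of_open_family j hA
    (fun i => RepWith.baseChange (sqj i) ((repWith_yon_map_iff _ _).2 inferInstance)) fun x => ?_
  obtain ⟨z, hz⟩ := (Points.schemeHomeo _).surjective (Points.map (pullback.snd p ψ) x)
  obtain ⟨i, y, rfl⟩ := exists_mem_range_sigmaOverι U z
  obtain ⟨w, -, hw⟩ := exists_point_of_isPullback (sqj i) (x := Points.ofScheme _ y) (y := x)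
    ((map_yon_map_ofScheme _ _).trans hz)
  exact ⟨i, w, hw⟩

end Groth.Agent.Stk19b.Fppf
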