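import Groth.Agent.EGA43.FlatDescent.SchemeOpen
import Groth.Agent.EGA43.Cons.Locus
import Groth.Agent.FlatLocal.FlatBaseChangeAt
import Groth.Agent.Desc19b.FlatOverBC
import Groth.Agent.AlgSpLib.Bootstrap

/-!
# Loci of properties at points descend to the base along an fppf chart
-/

set_option autoImplicit false
set_option linter.style.haveILetI false
set_option backward.isDefEq.respectTransparency.types false

universe u

open CategoryTheory CategoryTheory.Limits AlgebraicGeometry
open AlgSp

noncomputable section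

namespace Groth.Agent.Stk19b.Fppf

/-- A property at points which is open, stable under base change and descends along flat base change. -/
structure PtProp (P : ∀ ⦃X Y : Scheme.{u}⦄, (X ⟶ Y) → X → Prop) : Prop where
  isOpen : ∀ {X Y : Scheme.{u}} (f : X ⟶ Y) [LocallyOfFinitePresentation f], IsOpen {x | P f x}
  baseChange : ∀ {X Y X' Y' : Scheme.{u}} {g' : X' ⟶ X} {f' : X' ⟶ Y'} {f : X ⟶ Y} {g : Y' ⟶ Y},
    IsPullback g' f' f g → LocallyOfFinitePresentation f → ∀ x', P f (g' x') → P f' x'
  descend : ∀ {X Y X' Y' : Scheme.{u}} {g' : X' ⟶ X} {f' : X' ⟶ Y'} {f : X ⟶ Y} {g : Y' ⟶ Y},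
    IsPullback g' f' f g → LocallyOfFinitePresentation f → Flat g → ∀ x', P f' x' → P f (g' x')

theorem ptProp_flat : PtProp (fun _ _ f x => (f.stalkMap x).hom.Flat) where
  isOpen f _ := EGA43.FlatDescent.isOpen_flat_stalkMap f
  baseChange := fun {X Y X' Y' g' f' f g} sq _ x' h =>
    Desc19b.flat_stalkMap_baseChange g g' f' f sq.flip x' h
  descend := fun {X Y X' Y' g' f' f g} sq _ hg x' h => by
    let e := sq.isoPullback
    have e1 : e.hom ≫ pullback.fst f g = g' := sq.isoPullback_hom_fst
    have e2 : e.hom ≫ pullback.snd f g = f' := sq.isoPullback_hom_snd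
    have h' : ((pullback.snd f g).stalkMap (e.hom x')).hom.Flat := by
      refine (Desc19b.flat_stalkMap_comp_iff e.hom _ x' (Flat.stalkMap e.hom x')).1 ?_
      rw [e2]; exact h
    have := FlatLocal.flat_stalkMap_of_baseChange f g (e.hom x') (Flat.stalkMap g _) h'
    have key : pullback.fst f g (e.hom x') = g' x' := by rw [← Scheme.Hom.comp_apply, e1]
    exact key ▸ this

theorem ptProp_quasiFinite : PtProp (fun _ _ f x => f.QuasiFiniteAt x) where
  isOpen f _ := f.isOpen_quasiFiniteAt
  baseChange := fun {X Y X' Y' g' f' f g} sq _ x' h =>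
    (Set.ext_iff.1 (EGA43.Cons.quasiFiniteLocus_isPullback sq) x').2 h
  descend := fun {X Y X' Y' g' f' f g} sq _ _ x' h =>
    (Set.ext_iff.1 (EGA43.Cons.quasiFiniteLocus_isPullback sq) x').1 h

variable {S : Scheme.{u}}

theorem isPullback_left {A B C D : Over S} {a : A ⟶ B} {b : A ⟶ C} {c : B ⟶ D} {d : C ⟶ D}
    (sq : IsPullback ((yon S).map a) ((yon S).map b) ((yon S).map c) ((yon S).map d)) :
    IsPullback a.left b.left c.left d.left :=
  (IsPullback.of_map (yon S) ((yon S).map_injective (by
    rw [Functor.map_comp, Functor.map_comp]; exact sq.w)) sq).map (Over.forget S)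

variable {F : Sp S} {U : Over S} {p : (yon S).obj U ⟶ F} (hp : Representable p)
  {Z : Over S} (q : (yon S).obj Z ⟶ F)



/-- the locus is invariant under the two projections -/
theorem locus_invariant {P : ∀ ⦃X Y : Scheme.{u}⦄, (X ⟶ Y) → X → Prop} (hP : PtProp P)
    (hf : Flat (hp.fst' p).left) (hs : Flat (hp.snd p).left)
    (hfp : LocallyOfFinitePresentation (hp.fst' q).left) (x y : ↥(hp.pullback q).left)
    (hxy : (hp.snd q).left x = (hp.snd q).left y) :
    P (hp.fst' q).left x → P (hp.fst' q).left y := by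
  intro hx
  let T := hp.pullback q
  let tU := hp.fst' q
  let tZ := hp.snd q
  have sqZ := hp.isPullback' q
  have sqR := hp.isPullback' p
  -- the double chart
  let T' : Over S := pullback tZ tZ
  let a : T' ⟶ T := pullback.fst tZ tZ
  let b : T' ⟶ T := pullback.snd tZ tZ
  have wab : (yon S).map (a ≫ tU) ≫ p = (yon S).map (b ≫ tU) ≫ p := by
    simp only [Functor.map_comp, Category.assoc]
    rw [sqZ.w, ← Category.assoc, ← Category.assoc, ← Functor.map_comp, ← Functor.map_comp, pullback.condition]
  obtain ⟨r, hr⟩ := (yon S).map_surjective (sqR.lift _ _ wab)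
  have hr₁ : r ≫ hp.fst' p = a ≫ tU := (yon S).map_injective (by rw [Functor.map_comp, hr, sqR.lift_fst])
  have hr₂ : r ≫ hp.snd p = b ≫ tU := (yon S).map_injective (by rw [Functor.map_comp, hr, sqR.lift_snd])
  have sqT := (IsPullback.of_hasPullback tZ tZ).map (yon S)
  have sq₁ : IsPullback ((yon S).map a) ((yon S).map r) ((yon S).map tU) ((yon S).map (hp.fst' p)) := by
    refine (IsPullback.of_right (h₁₂ := (yon S).map (hp.snd p)) (h₂₂ := p) (v₁₃ := p) ?_ ?_ sqR.flip).flip
    · rw [← Functor.map_comp, hr₂]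
      rw [show (yon S).map tU ≫ p = (yon S).map tZ ≫ q from sqZ.w, Functor.map_comp]
      exact sqT.flip.paste_horiz sqZ
    · rw [← Functor.map_comp, hr₁, Functor.map_comp]
  have sq₂ : IsPullback ((yon S).map b) ((yon S).map r) ((yon S).map tU) ((yon S).map (hp.snd p)) := by
    refine (IsPullback.of_right (h₁₂ := (yon S).map (hp.fst' p)) (h₂₂ := p) (v₁₃ := p) ?_ ?_ sqR).flip
    · rw [← Functor.map_comp, hr₁]
      rw [show (yon S).map tU ≫ p = (yon S).map tZ ≫ q from sqZ.w, Functor.map_comp]
      exact sqT.paste_horiz sqZ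
    · rw [← Functor.map_comp, hr₂, Functor.map_comp]
  have sqS := (IsPullback.of_hasPullback tZ tZ).map (Over.forget S)
  obtain ⟨t, hta, htb⟩ := Scheme.Pullback.exists_preimage_pullback (f := tZ.left) (g := tZ.left) x y hxy
  let t' : ↥T'.left := sqS.isoPullback.inv t
  have ha : a.left t' = x := by
    rw [← hta]
    exact congrArg (fun k : pullback tZ.left tZ.left ⟶ T.left => k t) sqS.isoPullback_inv_fst
  have hb : b.left t' = y := by
    rw [← htb]
    exact congrArg (fun k : pullback tZ.left tZ.left ⟶ T.left => k t) sqS.isoPullback_inv_snd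
  have : P r.left t' := hP.baseChange (isPullback_left sq₁) hfp t' (by rw [ha]; exact hx)
  rw [← hb]
  exact hP.descend (isPullback_left sq₂) hfp hs t' this

/-- The points of the chart over which a property holds. -/
def locus (P : ∀ ⦃X Y : Scheme.{u}⦄, (X ⟶ Y) → X → Prop) (hP : PtProp P)
    [LocallyOfFinitePresentation (hp.fst' q).left] [Flat (hp.snd q).left]
    [LocallyOfFinitePresentation (hp.snd q).left] : Z.left.Opens :=
  ⟨(hp.snd q).left '' {x | P (hp.fst' q).left x},
    (hp.snd q).left.isOpenMap _ (hP.isOpen (hp.fst' q).left)⟩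

/-- the property holds on the locus for every base change -/
theorem prop_of_mem_locus {P : ∀ ⦃X Y : Scheme.{u}⦄, (X ⟶ Y) → X → Prop} (hP : PtProp P)
    (hpf : RepWith @Flat p) (hps : RepWith @Surjective p) (hq : Representable q)
    (hqp : RepWith @LocallyOfFinitePresentation q)
    [LocallyOfFinitePresentation (hp.fst' q).left] [Flat (hp.snd q).left]
    [LocallyOfFinitePresentation (hp.snd q).left]
    {T₀ : Over S} (ξ : (yon S).obj T₀ ⟶ F) (x : ↥(hq.pullback ξ).left)
    (hx : (hq.fst' ξ).left x ∈ locus hp q P hP) : P (hq.snd ξ).left x := by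
  have sqX := hq.isPullback' ξ
  have sqW := hp.isPullback' ξ
  let c := hp.snd ξ
  have hcf : Flat c.left := hpf.property _ _ _ sqW
  have hcs : Surjective c.left := hps.property _ _ _ sqW
  let X₀ := hq.pullback ξ
  let X₃ : Over S := pullback (hq.snd ξ) c
  let α : X₃ ⟶ X₀ := pullback.fst (hq.snd ξ) c
  let β : X₃ ⟶ hp.pullback ξ := pullback.snd (hq.snd ξ) c
  have sq3 := (IsPullback.of_hasPullback (hq.snd ξ) c).map (yon S)
  have sqT := hp.isPullback' q
  have wT : (yon S).map (β ≫ hp.fst' ξ) ≫ p = (yon S).map (α ≫ hq.fst' ξ) ≫ q := by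
    simp only [Functor.map_comp, Category.assoc]
    rw [sqW.w, sqX.w, ← Category.assoc, ← Category.assoc, ← Functor.map_comp, ← Functor.map_comp,
      pullback.condition]
  obtain ⟨l, hl⟩ := (yon S).map_surjective (sqT.lift _ _ wT)
  have hl₁ : l ≫ hp.fst' q = β ≫ hp.fst' ξ := (yon S).map_injective (by rw [Functor.map_comp, hl, sqT.lift_fst])
  have hl₂ : l ≫ hp.snd q = α ≫ hq.fst' ξ := (yon S).map_injective (by rw [Functor.map_comp, hl, sqT.lift_snd])
  have sqL : IsPullback ((yon S).map l) ((yon S).map β) ((yon S).map (hp.fst' q)) ((yon S).map (hp.fst' ξ)) := by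
    refine IsPullback.of_right (h₁₂ := (yon S).map (hp.snd q)) (h₂₂ := p) (v₁₃ := q) ?_ ?_ sqT.flip
    · rw [← Functor.map_comp, hl₂, sqW.w, Functor.map_comp]
      exact sq3.paste_horiz sqX
    · rw [← Functor.map_comp, hl₁, Functor.map_comp]
  obtain ⟨w, hw⟩ := hcs.surj ((hq.snd ξ).left x)
  have sqS := (IsPullback.of_hasPullback (hq.snd ξ) c).map (Over.forget S)
  obtain ⟨t, hta, htb⟩ := Scheme.Pullback.exists_preimage_pullback (f := (hq.snd ξ).left) (g := c.left) x w hw.symm
  let t' : ↥X₃.left := sqS.isoPullback.inv t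
  have ha : α.left t' = x := by
    rw [← hta]
    exact congrArg (fun k : pullback (hq.snd ξ).left c.left ⟶ X₀.left => k t) sqS.isoPullback_inv_fst
  obtain ⟨y, hy, hyx⟩ := hx
  have hz : P (hp.fst' q).left (l.left t') := by
    refine locus_invariant hp q hP ?_ ?_ inferInstance y (l.left t') ?_ hy
    · exact hpf.property _ _ _ (hp.isPullback' p).flip
    · exact hpf.property _ _ _ (hp.isPullback' p)
    · rw [hyx, ← Scheme.Hom.comp_apply, show l.left ≫ (hp.snd q).left = α.left ≫ (hq.fst' ξ).left from
        congrArg (fun k => k.left) hl₂, Scheme.Hom.comp_apply, ha]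
  have hβ : P β.left t' := hP.baseChange (isPullback_left sqL) inferInstance t' hz
  rw [← ha]
  exact hP.descend sqS (hqp.property _ _ _ sqX) hcf t' hβ

end Groth.Agent.Stk19b.Fppf
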