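import Groth.Agent.Stk19b.Fppf.SliceAlg
import Groth.Agent.Stk19b.Fppf.SliceLocus

/-!
# Quasi-finite slices of an fppf chart of a sheaf
-/

set_option autoImplicit false
set_option linter.style.haveILetI false
set_option backward.isDefEq.respectTransparency false
set_option backward.isDefEq.respectTransparency.types false

universe u

open CategoryTheory CategoryTheory.Limits AlgebraicGeometry
open AlgSp

noncomputable section

namespace Groth.Agent.Stk19b.Fppf

variable {S : Scheme.{u}} {F : Sp S}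

/-- base change of a composite -/
theorem exists_isPullback_comp {U Z Z' A A' : Over S} {p : (yon S).obj U ⟶ F} {q : (yon S).obj Z ⟶ F}
    {a : A ⟶ U} {b : A ⟶ Z} (sq : IsPullback ((yon S).map a) ((yon S).map b) p q) (j : Z' ⟶ Z)
    {a' : A' ⟶ U} {b' : A' ⟶ Z'} (sq' : IsPullback ((yon S).map a') ((yon S).map b') p ((yon S).map j ≫ q)) :
    ∃ k : A' ⟶ A, IsPullback k.left b'.left b.left j.left ∧ k ≫ a = a' := by
  obtain ⟨k, hk⟩ := (yon S).map_surjective (sq.lift ((yon S).map a') ((yon S).map b' ≫ (yon S).map j)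
    (by rw [sq'.w, Category.assoc]))
  refine ⟨k, isPullback_left ?_, (yon S).map_injective (by rw [Functor.map_comp, hk, sq.lift_fst])⟩
  refine (IsPullback.of_right (h₁₂ := (yon S).map a) (v₁₃ := p) (h₂₂ := q) ?_ ?_ sq.flip.flip).flip.flip
  · rw [hk, sq.lift_fst]; exact sq'
  · rw [hk, sq.lift_snd]

theorem exists_point {U Z Z' A A' : Over S} {p : (yon S).obj U ⟶ F} {q : (yon S).obj Z ⟶ F}
    {a : A ⟶ U} {b : A ⟶ Z} (sq : IsPullback ((yon S).map a) ((yon S).map b) p q) (j : Z' ⟶ Z)
    {a' : A' ⟶ U} {b' : A' ⟶ Z'} (sq' : IsPullback ((yon S).map a') ((yon S).map b') p ((yon S).map j ≫ q))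
    (x : ↥A.left) (z' : ↥Z'.left) (h : b.left x = j.left z') :
    ∃ x' : ↥A'.left, a'.left x' = a.left x := by
  obtain ⟨k, hk, hka⟩ := exists_isPullback_comp sq j sq'
  obtain ⟨t, ht, -⟩ := Scheme.Pullback.exists_preimage_pullback (f := b.left) (g := j.left) x z' h
  refine ⟨hk.isoPullback.inv t, ?_⟩
  have e1 : k.left (hk.isoPullback.inv t) = x := by
    rw [← ht, ← Scheme.Hom.comp_apply, hk.isoPullback_inv_fst]
  rw [← hka, ← e1]
  rfl

variable {U : Over S} {p : (yon S).obj U ⟶ F}

/-- restriction to an open inside the locus -/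
theorem repWith_of_le_locus (hd : Representable (Limits.diag F)) (hpf : RepWith @Flat p)
    (hps : RepWith @Surjective p) (hp : Representable p) {Z Z' : Over S} (q : (yon S).obj Z ⟶ F)
    (hqp : RepWith @LocallyOfFinitePresentation q)
    [LocallyOfFinitePresentation (hp.fst' q).left] [Flat (hp.snd q).left]
    [LocallyOfFinitePresentation (hp.snd q).left]
    {P : ∀ ⦃X Y : Scheme.{u}⦄, (X ⟶ Y) → X → Prop} (hP : PtProp P)
    (Q : MorphismProperty Scheme.{u})
    (hQ : ∀ {X Y : Scheme.{u}} (f : X ⟶ Y) [LocallyOfFinitePresentation f], (∀ x, P f x) → Q f)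
    (hPo : ∀ {X X' Y : Scheme.{u}} (k : X' ⟶ X) [IsOpenImmersion k] (f : X ⟶ Y) (x : X'), P f (k x) → P (k ≫ f) x)
    (j : Z' ⟶ Z) [IsOpenImmersion j.left] (hj : ∀ z, j.left z ∈ locus hp q P hP) :
    RepWith Q ((yon S).map j ≫ q) := by
  have hq : Representable q := Functor.relativelyRepresentable.of_diag hd q
  have hq' : Representable ((yon S).map j ≫ q) := Functor.relativelyRepresentable.of_diag hd _
  refine ⟨hq', fun {a b} g fst snd h => ?_⟩
  obtain ⟨fst', rfl⟩ := (yon S).map_surjective fst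
  obtain ⟨k, hk, hkf⟩ := exists_isPullback_comp (hq.isPullback' g).flip j h.flip
  have : IsOpenImmersion k.left := MorphismProperty.of_isPullback (P := @IsOpenImmersion) hk.flip ‹_›
  have ek : snd.left = k.left ≫ (hq.snd g).left := (congrArg (fun k => k.left) hkf).symm
  have : LocallyOfFinitePresentation (hq.snd g).left := hqp.property _ _ _ (hq.isPullback' g)
  have : LocallyOfFinitePresentation snd.left := by rw [ek]; infer_instance
  refine @hQ _ _ snd.left this fun x => ?_
  show P snd.left x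
  rw [show snd.left = k.left ≫ (hq.snd g).left from (congrArg (fun k => k.left) hkf).symm]
  refine hPo k.left _ x (prop_of_mem_locus hp q hP hpf hps hq hqp g (k.left x) ?_)
  rw [← Scheme.Hom.comp_apply, hk.w, Scheme.Hom.comp_apply]
  exact hj _

theorem quotient_isPushout {C B : Type u} [CommRing C] [CommRing B] (χ : C →+* B) (f : C) :
    IsPushout (CommRingCat.ofHom (Ideal.Quotient.mk (Ideal.span {f}))) (CommRingCat.ofHom χ)
      (CommRingCat.ofHom (Ideal.quotientMap (Ideal.span {χ f}) χ (by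
        rw [Ideal.span_le, Set.singleton_subset_iff]; exact Ideal.subset_span rfl)))
      (CommRingCat.ofHom (Ideal.Quotient.mk (Ideal.span {χ f}))) := by
  refine IsPushout.of_isColimit' ⟨by ext c; rfl⟩ (PushoutCocone.isColimitAux' _ fun s => ?_)
  have hle : ∀ b ∈ Ideal.span {χ f}, s.inr.hom b = 0 := fun b hb => by
    obtain ⟨r, rfl⟩ := Ideal.mem_span_singleton'.1 hb
    rw [map_mul]
    have := RingHom.congr_fun (congrArg CommRingCat.Hom.hom s.condition) f
    have e : s.inr.hom (χ f) = 0 := by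
      rw [show s.inr.hom (χ f) = (CommRingCat.ofHom χ ≫ s.inr).hom f from rfl, ← s.condition]
      show s.inl.hom (Ideal.Quotient.mk _ f) = 0
      rw [Ideal.Quotient.eq_zero_iff_mem.2 (Ideal.mem_span_singleton_self f), map_zero]
    rw [e, mul_zero]
  refine ⟨CommRingCat.ofHom (Ideal.Quotient.lift _ s.inr.hom hle), ?_, ?_, fun {m} h₁ h₂ => ?_⟩
  · ext c
    exact (RingHom.congr_fun (congrArg CommRingCat.Hom.hom s.condition) c).symm
  · ext b; rfl
  · exact CommRingCat.hom_ext (Ideal.Quotient.ringHom_ext (congrArg CommRingCat.Hom.hom h₂))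

theorem exists_away_lift {R T : Type u} [CommRing R] [CommRing T] (χ : R →+* T) (c : R) (hu : IsUnit (χ c)) :
    ∃ ψ : CommRingCat.of (Localization.Away c) ⟶ CommRingCat.of T,
      CommRingCat.ofHom (algebraMap R (Localization.Away c)) ≫ ψ = CommRingCat.ofHom χ :=
  ⟨CommRingCat.ofHom (IsLocalization.Away.lift c hu),
    CommRingCat.hom_ext (RingHom.ext fun x => IsLocalization.Away.lift_eq c hu x)⟩

variable (hd : Representable (Limits.diag F)) (hpf : RepWith @Flat p)
    (hpl : RepWith @LocallyOfFinitePresentation p) (hps : RepWith @Surjective p)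

set_option maxHeartbeats 1600000 in
include hd hpf hpl hps in
/-- slices of a flat finitely presented scheme over `F` through the fibre over a locally closed point -/
theorem exists_slice_aux {W : U.left.Opens} (hW : IsAffineOpen W) (𝔭 : Ideal Γ(U.left, W)) [𝔭.IsMaximal]
    (n : ℕ) : ∀ (Z : Over S) (q : (yon S).obj Z ⟶ F), (∃ g : Z ⟶ U, (yon S).map g ≫ p = q) →
      IsAffine Z.left → RepWith @Flat q →
      RepWith @LocallyOfFinitePresentation q →
      ∀ (B : Type u) [CommRing B] [Algebra Γ(U.left, W) B] [Algebra.FinitePresentation Γ(U.left, W) B]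
        [Module.Flat Γ(U.left, W) B]
        (ι : Spec (CommRingCat.of B) ⟶ (Functor.relativelyRepresentable.of_diag hd p).pullback q |>.left),
        IsOpenImmersion ι →
        ι ≫ ((Functor.relativelyRepresentable.of_diag hd p).fst' q).left =
          Spec.map (CommRingCat.ofHom (algebraMap Γ(U.left, W) B)) ≫ hW.fromSpec →
        Nontrivial (𝔭.Fiber B) → ringKrullDim (𝔭.Fiber B) ≤ n →
        ∃ (Z' : Over S) (q' : (yon S).obj Z' ⟶ F), RepWith @Flat q' ∧
          RepWith @LocallyOfFinitePresentation q' ∧ RepWith @LocallyQuasiFinite q' ∧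
          (∃ g : Z' ⟶ U, (yon S).map g ≫ p = q') ∧ ∃ x, ((Functor.relativelyRepresentable.of_diag hd p).fst' q').left x =
            hW.fromSpec ⟨𝔭, inferInstance⟩ := by
  induction n using Nat.strong_induction_on with
  | _ n ih =>
  intro Z q hgU hZ hqf hqp B _ _ _ _ ι hι hιU hnt hdim
  let hp := Functor.relativelyRepresentable.of_diag hd p
  let A := Γ(U.left, W)
  let T := hp.pullback q
  let tU := (hp.fst' q).left
  let tZ := (hp.snd q).left
  have sqT := hp.isPullback' q
  have : Flat tZ := hpf.property _ _ _ sqT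
  have : LocallyOfFinitePresentation tZ := hpl.property _ _ _ sqT
  have : Flat tU := hqf.property _ _ _ sqT.flip
  have : LocallyOfFinitePresentation tU := hqp.property _ _ _ sqT.flip
  by_cases hmin : ∀ P ∈ minimalPrimes (𝔭.Fiber B), P.IsMaximal
  · -- zero-dimensional fibre
    have : Ring.KrullDimLE 0 (𝔭.Fiber B) := Ring.krullDimLE_zero_iff.2 fun I hI => by
      obtain ⟨P, hP, hPI⟩ := Ideal.exists_minimalPrimes_le (I := (⊥ : Ideal (𝔭.Fiber B))) (J := I) bot_le
      exact (hmin P hP).eq_of_le hI.ne_top hPI ▸ hmin P hP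
    have : IsNoetherianRing (𝔭.Fiber B) := Algebra.FiniteType.isNoetherianRing 𝔭.ResidueField _
    have : IsArtinianRing (𝔭.Fiber B) :=
      isArtinianRing_iff_isNoetherianRing_krullDimLE_zero.2 ⟨inferInstance, inferInstance⟩
    have : Module.Finite 𝔭.ResidueField (𝔭.Fiber B) := (Module.finite_iff_isArtinianRing _ _).2 inferInstance
    obtain ⟨Q⟩ : Nonempty (PrimeSpectrum (𝔭.Fiber B)) := inferInstance
    let qb := Q.asIdeal.comap Algebra.TensorProduct.includeRight.toRingHom
    have hlies : qb.LiesOver 𝔭 := ((PrimeSpectrum.primesOverOrderIsoFiber A B 𝔭).symm Q).2.2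
    have := Algebra.QuasiFiniteAt.of_quasiFiniteAt_residueField 𝔭 qb Q.asIdeal rfl
    obtain ⟨S', hS', r, hrq, hbij⟩ :=
      Algebra.QuasiFiniteAt.exists_fg_and_exists_notMem_and_awayMap_bijective (R := A) qb
    have : Module.Finite A S' := ⟨(Submodule.fg_top _).mpr hS'⟩
    have : Algebra.QuasiFinite A (Localization.Away r) := .trans _ S' _
    have : Algebra.QuasiFinite A (Localization.Away r.1) :=
      .of_surjective_algHom (Localization.awayMapₐ S'.val r) hbij.2
    let jr : Spec (CommRingCat.of (Localization.Away r.1)) ⟶ Spec (CommRingCat.of B) :=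
      Spec.map (CommRingCat.ofHom (algebraMap B (Localization.Away r.1)))
    have : IsOpenImmersion jr := IsOpenImmersion.of_isLocalization r.1
    have hqfc : LocallyQuasiFinite ((jr ≫ ι) ≫ tU) := by
      rw [Category.assoc, hιU, ← Category.assoc, ← Spec.map_comp]
      have : LocallyQuasiFinite (Spec.map (CommRingCat.ofHom (algebraMap A B) ≫
          CommRingCat.ofHom (algebraMap B (Localization.Away r.1)))) := by
        refine (HasRingHomProperty.Spec_iff (P := @LocallyQuasiFinite)).2 ?_
        rw [← CommRingCat.ofHom_comp, ← IsScalarTower.algebraMap_eq]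
        exact RingHom.quasiFinite_algebraMap.2 inferInstance
      have : LocallyQuasiFinite hW.fromSpec := inferInstance
      exact MorphismProperty.comp_mem @LocallyQuasiFinite _ _ ‹_› ‹_›
    obtain ⟨y₀, hy₀⟩ : (⟨qb, inferInstance⟩ : PrimeSpectrum B) ∈ Set.range jr := by
      rw [show (Set.range jr : Set (PrimeSpectrum B)) = PrimeSpectrum.basicOpen r.1 from
        PrimeSpectrum.localization_away_comap_range _ r.1]
      exact hrq
    let x : ↥T.left := (jr ≫ ι) y₀
    have hxq : tU.QuasiFiniteAt x :=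
      Scheme.Hom.quasiFiniteAt_comp_iff_of_isOpenImmersion.1 (((jr ≫ ι) ≫ tU).quasiFiniteAt y₀)
    have hxu : tU x = hW.fromSpec ⟨𝔭, inferInstance⟩ := by
      show ((jr ≫ ι) ≫ tU) y₀ = _
      rw [Category.assoc, hιU, Scheme.Hom.comp_apply, hy₀, Scheme.Hom.comp_apply]
      exact congrArg hW.fromSpec (PrimeSpectrum.ext hlies.over.symm)
    let D := locus hp q _ ptProp_quasiFinite
    let Z' : Over S := Over.mk (D.ι ≫ Z.hom)
    let j : Z' ⟶ Z := Over.homMk D.ι
    have : IsOpenImmersion j.left := inferInstanceAs (IsOpenImmersion D.ι)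
    have hjR : RepWith @LocallyOfFinitePresentation ((yon S).map j) :=
      (repWith_yon_map_iff _ j).2 inferInstance
    have hjF : RepWith @Flat ((yon S).map j) := (repWith_yon_map_iff _ j).2 inferInstance
    refine ⟨Z', (yon S).map j ≫ q, AlgSpLib.RepWith.comp hjF hqf, AlgSpLib.RepWith.comp hjR hqp,
      repWith_of_le_locus hd hpf hps hp q hqp ptProp_quasiFinite _
        (fun f _ h => (Scheme.Hom.quasiFiniteLocus_eq_top_iff f).1
          (TopologicalSpace.Opens.ext (Set.eq_univ_of_forall h)))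
        (fun k _ f y h => Scheme.Hom.quasiFiniteAt_comp_iff_of_isOpenImmersion.2 h) j
        (fun z => z.2), ?_, ?_⟩
    · obtain ⟨g, rfl⟩ := hgU
      exact ⟨j ≫ g, by rw [Functor.map_comp, Category.assoc]⟩
    obtain ⟨x', hx'⟩ := exists_point sqT j (hp.isPullback' _) x ⟨tZ x, x, hxq, rfl⟩ rfl
    exact ⟨x', hx'.trans hxu⟩
  · push Not at hmin
    obtain ⟨P, hP, hPm⟩ := hmin
    have hPp := hP.isPrime
    obtain ⟨g, f₀, m, hm, hgm, hf₀m, hf₀P, hgQ⟩ := FlatMorSlice.exists_cut 𝔭 P hP hPm
    let inc : B →+* 𝔭.Fiber B := Algebra.TensorProduct.includeRight.toRingHom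
    have hincs : Function.Surjective inc := fun z => by
      obtain ⟨s, hs, b, hb⟩ := Ideal.Fiber.exists_smul_eq_one_tmul 𝔭 z
      obtain ⟨s', hs'⟩ : ∃ s', s * s' - 1 ∈ 𝔭 := by
        let _ := Ideal.Quotient.field 𝔭
        obtain ⟨s', hs'⟩ := Ideal.Quotient.mk_surjective (Ideal.Quotient.mk 𝔭 s)⁻¹
        refine ⟨s', Ideal.Quotient.eq_zero_iff_mem.1 ?_⟩
        rw [map_sub, map_mul, map_one, hs', mul_inv_cancel₀, sub_self]
        exact fun e => hs (Ideal.Quotient.eq_zero_iff_mem.1 e)
      refine ⟨algebraMap A B s' * b, ?_⟩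
      show Algebra.TensorProduct.includeRight _ = z
      rw [map_mul, AlgHom.commutes, show Algebra.TensorProduct.includeRight b = algebraMap A (𝔭.Fiber B) s * z by
        rw [← Algebra.smul_def, hb]; rfl, ← mul_assoc, ← map_mul, mul_comm s' s]
      have : algebraMap A (𝔭.Fiber B) (s * s') = 1 := by
        rw [← sub_eq_zero, ← map_one (algebraMap A (𝔭.Fiber B)), ← map_sub,
          IsScalarTower.algebraMap_apply A 𝔭.ResidueField, Ideal.algebraMap_residueField_eq_zero.2 hs', map_zero]
      rw [this, one_mul]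
    let mB := m.comap inc
    let PB := P.comap inc
    have : mB.IsMaximal := Ideal.comap_isMaximal_of_surjective inc hincs
    have hover : ∀ I : Ideal (𝔭.Fiber B), I.IsPrime → (I.comap inc).comap (algebraMap A B) = 𝔭 := fun I hI =>
      ((PrimeSpectrum.primesOverOrderIsoFiber A B 𝔭).symm ⟨I, hI⟩).2.2.over.symm
    -- the other projection
    let C := Γ(Z.left, ⊤)
    let χ : C ⟶ CommRingCat.of B := Spec.preimage (ι ≫ tZ ≫ Z.left.isoSpec.hom)
    have hχ : ι ≫ tZ = Spec.map χ ≫ Z.left.isoSpec.inv := by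
      rw [Spec.map_preimage]; simp
    letI : Algebra C B := χ.hom.toAlgebra
    haveI : Algebra.FiniteType C B := by
      have h : LocallyOfFiniteType (Spec.map χ) := by
        rw [Spec.map_preimage]; infer_instance
      exact RingHom.finiteType_algebraMap.1 ((HasRingHomProperty.Spec_iff (P := @LocallyOfFiniteType)).1 h)
    have hmono : ∀ (Ω : Type u) [CommRing Ω] (β₁ β₂ : B →+* Ω),
        β₁.comp (algebraMap C B) = β₂.comp (algebraMap C B) →
        β₁.comp (algebraMap A B) = β₂.comp (algebraMap A B) → β₁ = β₂ := by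
      intro Ω _ β₁ β₂ hC hA
      let s₁ := Spec.map (CommRingCat.ofHom β₁) ≫ ι
      let s₂ := Spec.map (CommRingCat.ofHom β₂) ≫ ι
      have e₁ : s₁ ≫ tU = s₂ ≫ tU := by
        simp only [s₁, s₂, Category.assoc]
        rw [show ι ≫ tU = _ from hιU, ← Spec.map_comp_assoc, ← Spec.map_comp_assoc, ← CommRingCat.ofHom_comp,
          ← CommRingCat.ofHom_comp, hA]
      have e₂ : s₁ ≫ tZ = s₂ ≫ tZ := by
        simp only [s₁, s₂, Category.assoc, hχ, ← Spec.map_comp_assoc]
        congr 2
        exact CommRingCat.hom_ext hC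
      let K : Over S := Over.mk (s₁ ≫ T.hom)
      let a₁ : K ⟶ T := Over.homMk s₁
      let a₂ : K ⟶ T := Over.homMk s₂ (by
        show s₂ ≫ T.hom = s₁ ≫ T.hom
        rw [← Over.w (hp.fst' q), ← Category.assoc, ← Category.assoc, e₁])
      have ea : a₁ = a₂ := (yon S).map_injective (sqT.hom_ext
        (by rw [← Functor.map_comp, ← Functor.map_comp]; exact congrArg _ (Over.OverMorphism.ext e₁))
        (by rw [← Functor.map_comp, ← Functor.map_comp]; exact congrArg _ (Over.OverMorphism.ext e₂)))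
      have es : s₁ = s₂ := congrArg (fun k => k.left) ea
      have := Spec.map_injective ((cancel_mono ι).1 es)
      exact congrArg CommRingCat.Hom.hom this
    -- an element from the other factor
    have hPlem : P ≤ m := by
      have : IsNoetherianRing (𝔭.Fiber B) := Algebra.FiniteType.isNoetherianRing 𝔭.ResidueField _
      obtain ⟨P', hP', hP'le⟩ := Ideal.exists_minimalPrimes_le (I := (⊥ : Ideal (𝔭.Fiber B))) (J := m) bot_le
      have hass : P' ∈ associatedPrimes (𝔭.Fiber B) (𝔭.Fiber B) :=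
        Module.associatedPrimes.minimalPrimes_annihilator_subset_associatedPrimes (𝔭.Fiber B)
          (𝔭.Fiber B) (by
            rw [show Module.annihilator (𝔭.Fiber B) (𝔭.Fiber B) = ⊥ from
              Module.annihilator_eq_bot.2 inferInstance]
            exact hP')
      exact (by_contra fun h => hgm (hP'le (hgQ P' hass h)) : P' = P) ▸ hP'le
    obtain ⟨f, hfm, hfP⟩ : ∃ f : C, algebraMap C B f ∈ mB ∧ algebraMap C B f ∉ PB := by
      by_contra! h
      haveI : (mB.comap (algebraMap A B)).IsMaximal := by rw [hover m hm.isPrime]; infer_instance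
      have hle : PB ≤ mB := Ideal.comap_mono hPlem
      have hPA : PB.comap (algebraMap A B) = mB.comap (algebraMap A B) := by
        rw [hover P hPp, hover m hm.isPrime]
      have e := eq_of_le_of_mono hmono PB mB hle hPA
        (le_antisymm (Ideal.comap_mono hle) fun c hc => h c hc)
      exact hPm ((Ideal.comap_injective_of_surjective inc hincs e : P = m) ▸ hm)
    let fB : B := algebraMap C B f
    -- flatness of the cut at `mB`
    let r : PrimeSpectrum B := ⟨mB, inferInstance⟩
    have hinj := FlatMorSlice.fibInjAt_cut 𝔭 P (f := fB) hfP hgQ r (hover m hm.isPrime) hgm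
    let mk₁ : B →+* B ⧸ Ideal.span {fB} := Ideal.Quotient.mk _
    let r' : Ideal (B ⧸ Ideal.span {fB}) := mB.map mk₁
    have hle : Ideal.span {fB} ≤ mB := (Ideal.span_singleton_le_iff_mem _).2 hfm
    have : r'.IsPrime := Ideal.map_isPrime_of_surjective Ideal.Quotient.mk_surjective
      (by rwa [Ideal.mk_ker])
    have hr' : r'.comap mk₁ = mB := by
      rw [Ideal.comap_map_of_surjective _ Ideal.Quotient.mk_surjective, ← RingHom.ker_eq_comap_bot,
        Ideal.mk_ker, sup_eq_left.2 hle]
    have := Algebra.FinitePresentation.quotient (R := A) (Submodule.fg_span_singleton fB)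
    have hgr' : mk₁ g ∉ r' := fun h => hgm (by
      have h' : g ∈ r'.comap mk₁ := h
      rwa [hr'] at h')
    obtain ⟨c', hc', hflat⟩ := FlatMorSlice.exists_away_flat r' (FlatMorSlice.flat_localized_cut fB r hinj r' hr') hgr'
    let e₁ := c' * mk₁ g
    -- the closed subscheme of `Z`
    let C₁ : CommRingCat := CommRingCat.of (C ⧸ Ideal.span {f})
    let mkC : C ⟶ C₁ := CommRingCat.ofHom (Ideal.Quotient.mk _)
    let χ₁ : C₁ ⟶ CommRingCat.of (B ⧸ Ideal.span {fB}) := CommRingCat.ofHom
      (Ideal.quotientMap (Ideal.span {fB}) χ.hom (by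
        rw [Ideal.span_le, Set.singleton_subset_iff]; exact Ideal.subset_span rfl))
    let l₁ := Spec.map mkC ≫ Z.left.isoSpec.inv
    let Z₁ : Over S := Over.mk (l₁ ≫ Z.hom)
    let j₁ : Z₁ ⟶ Z := Over.homMk l₁
    let q₁ := (yon S).map j₁ ≫ q
    have : LocallyOfFinitePresentation (Spec.map mkC) :=
      (HasRingHomProperty.Spec_iff (P := @LocallyOfFinitePresentation)).2
        (RingHom.FinitePresentation.of_surjective _ Ideal.Quotient.mk_surjective
          (by rw [CommRingCat.hom_ofHom, Ideal.mk_ker]; exact Submodule.fg_span_singleton f))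
    have : LocallyOfFinitePresentation j₁.left :=
      (inferInstance : LocallyOfFinitePresentation (Spec.map mkC ≫ Z.left.isoSpec.inv))
    have hq₁p : RepWith @LocallyOfFinitePresentation q₁ :=
      AlgSpLib.RepWith.comp ((repWith_yon_map_iff _ j₁).2 ‹LocallyOfFinitePresentation j₁.left›) hqp
    have sqT₁ := hp.isPullback' q₁
    obtain ⟨k₁, hk₁, hk₁U⟩ := exists_isPullback_comp sqT j₁ sqT₁
    let tU₁ := (hp.fst' q₁).left
    let tZ₁ : (hp.pullback q₁).left ⟶ Spec C₁ := (hp.snd q₁).left
    have : Flat (hp.snd q₁).left := hpf.property _ _ _ sqT₁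
    have : LocallyOfFinitePresentation (hp.snd q₁).left := hpl.property _ _ _ sqT₁
    have : LocallyOfFinitePresentation (hp.fst' q₁).left := hq₁p.property _ _ _ sqT₁.flip
    let mkB : CommRingCat.of B ⟶ CommRingCat.of (B ⧸ Ideal.span {fB}) := CommRingCat.ofHom mk₁
    have sqB : IsPullback (Spec.map mkB) (Spec.map χ₁) (Spec.map χ ≫ Z.left.isoSpec.inv) l₁ := by
      have h := (isPullback_SpecMap_of_isPushout _ _ _ _ (quotient_isPushout χ.hom f)).flip
      have h2 := h.paste_vert (IsPullback.of_vert_isIso (fst := Spec.map mkC) (snd := 𝟙 _)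
        (f := Z.left.isoSpec.inv) (g := l₁) ⟨by simp [l₁]⟩)
      rwa [Category.comp_id] at h2
    let ι₁ : Spec (CommRingCat.of (B ⧸ Ideal.span {fB})) ⟶ (hp.pullback q₁).left :=
      hk₁.lift (Spec.map mkB ≫ ι) (Spec.map χ₁) (by
        rw [Category.assoc, hχ]; exact sqB.w)
    have hι₁k : ι₁ ≫ k₁.left = Spec.map mkB ≫ ι := hk₁.lift_fst _ _ _
    have hι₁Z : ι₁ ≫ tZ₁ = Spec.map χ₁ := hk₁.lift_snd _ _ _
    have sqι : IsPullback (Spec.map mkB) ι₁ ι k₁.left := by
      refine IsPullback.of_bot ?_ hι₁k.symm hk₁.flip.flip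
      rw [hι₁Z, hχ]; exact sqB
    have : IsOpenImmersion ι₁ := MorphismProperty.of_isPullback (P := @IsOpenImmersion) sqι ‹IsOpenImmersion ι›
    have hι₁U : ι₁ ≫ tU₁ = Spec.map (CommRingCat.ofHom (algebraMap A (B ⧸ Ideal.span {fB}))) ≫ hW.fromSpec := by
      have : tU₁ = k₁.left ≫ tU := (congrArg (fun k => k.left) hk₁U).symm
      rw [this, reassoc_of% hι₁k, show ι ≫ tU = _ from hιU, ← Spec.map_comp_assoc]
      rfl
    -- a point of the flat locus
    let je : Spec (CommRingCat.of (Localization.Away e₁)) ⟶ Spec (CommRingCat.of (B ⧸ Ideal.span {fB})) :=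
      Spec.map (CommRingCat.ofHom (algebraMap (B ⧸ Ideal.span {fB}) (Localization.Away e₁)))
    have : IsOpenImmersion je := IsOpenImmersion.of_isLocalization e₁
    have hFl : Flat ((je ≫ ι₁) ≫ tU₁) := by
      rw [Category.assoc, hι₁U, ← Category.assoc, ← Spec.map_comp]
      have : Flat (Spec.map (CommRingCat.ofHom (algebraMap A (B ⧸ Ideal.span {fB})) ≫
          CommRingCat.ofHom (algebraMap (B ⧸ Ideal.span {fB}) (Localization.Away e₁)))) := by
        refine (HasRingHomProperty.Spec_iff (P := @Flat)).2 ?_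
        rw [← CommRingCat.ofHom_comp, ← IsScalarTower.algebraMap_eq]
        exact RingHom.flat_algebraMap_iff.2 hflat
      exact MorphismProperty.comp_mem @Flat _ _ this inferInstance
    let y₁ : Spec (CommRingCat.of (B ⧸ Ideal.span {fB})) := ⟨r', inferInstance⟩
    obtain ⟨y₀, hy₀⟩ : y₁ ∈ Set.range je := by
      rw [show (Set.range je : Set (PrimeSpectrum (B ⧸ Ideal.span {fB}))) = PrimeSpectrum.basicOpen e₁ from
        PrimeSpectrum.localization_away_comap_range _ e₁]
      exact hc'
    have hx₁ : (tU₁.stalkMap ((je ≫ ι₁) y₀)).hom.Flat :=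
      (Desc19b.flat_stalkMap_comp_iff (je ≫ ι₁) tU₁ y₀ (Flat.stalkMap _ _)).1 (Flat.stalkMap _ _)
    let D := locus hp q₁ _ ptProp_flat
    let v₁ : Spec C₁ := Spec.map χ₁ y₁
    have hv₁ : v₁ ∈ (D.carrier : Set (Spec C₁)) := ⟨(je ≫ ι₁) y₀, hx₁, by
      show tZ₁ ((je ≫ ι₁) y₀) = v₁
      rw [Scheme.Hom.comp_apply, hy₀, ← Scheme.Hom.comp_apply, hι₁Z]⟩
    obtain ⟨_, ⟨_, ⟨c, rfl⟩, rfl⟩, hvc, hcD⟩ :=
      PrimeSpectrum.isBasis_basic_opens.exists_subset_of_mem_open hv₁ D.isOpen
    -- the new slice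
    let C₂ : CommRingCat := CommRingCat.of (Localization.Away c)
    let locC : C₁ ⟶ C₂ := CommRingCat.ofHom (algebraMap _ _)
    have : IsOpenImmersion (Spec.map locC) := IsOpenImmersion.of_isLocalization c
    let Z₂ : Over S := Over.mk (Spec.map locC ≫ Z₁.hom)
    let j₂ : Z₂ ⟶ Z₁ := Over.homMk (Spec.map locC)
    have : IsOpenImmersion j₂.left := inferInstanceAs (IsOpenImmersion (Spec.map locC))
    let q₂ := (yon S).map j₂ ≫ q₁
    have hq₂p : RepWith @LocallyOfFinitePresentation q₂ :=
      AlgSpLib.RepWith.comp ((repWith_yon_map_iff _ j₂).2 inferInstance) hq₁p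
    have hq₂f : RepWith @Flat q₂ := repWith_of_le_locus hd hpf hps hp q₁ hq₁p ptProp_flat _
      (fun f _ h => Flat.of_stalkMap _ h)
      (fun k _ f x h => (Desc19b.flat_stalkMap_comp_iff k f x (Flat.stalkMap k x)).2 h)
      j₂ (fun z => hcD (by
        show Spec.map locC z ∈ _
        rw [← show (Set.range (Spec.map locC) : Set (PrimeSpectrum C₁)) = PrimeSpectrum.basicOpen c from
          PrimeSpectrum.localization_away_comap_range _ c]
        exact Set.mem_range_self z))
    let e := e₁ * χ₁.hom c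
    let B₂ := Localization.Away e
    have hcu : IsUnit (((algebraMap (B ⧸ Ideal.span {fB}) B₂).comp χ₁.hom) c) :=
      isUnit_of_mul_isUnit_right (x := algebraMap _ B₂ e₁) (by
        rw [RingHom.comp_apply, ← map_mul]; exact IsLocalization.Away.algebraMap_isUnit e)
    obtain ⟨χ₂, hχ₂'⟩ := exists_away_lift ((algebraMap (B ⧸ Ideal.span {fB}) B₂).comp χ₁.hom) c hcu
    have hχ₂ : Spec.map χ₂ ≫ Spec.map locC =
        Spec.map (CommRingCat.ofHom (algebraMap (B ⧸ Ideal.span {fB}) B₂)) ≫ Spec.map χ₁ :=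
      (Spec.map_comp _ _).symm.trans ((congrArg (fun k => Spec.map k) hχ₂').trans (Spec.map_comp χ₁ _))
    let jB : Spec (CommRingCat.of B₂) ⟶ Spec (CommRingCat.of (B ⧸ Ideal.span {fB})) :=
      Spec.map (CommRingCat.ofHom (algebraMap (B ⧸ Ideal.span {fB}) B₂))
    have : IsOpenImmersion jB := IsOpenImmersion.of_isLocalization e
    have sqT₂ := hp.isPullback' q₂
    obtain ⟨k₂, hk₂, hk₂U⟩ := exists_isPullback_comp sqT₁ j₂ sqT₂
    let ι₂ : Spec (CommRingCat.of B₂) ⟶ (hp.pullback q₂).left :=
      hk₂.lift (jB ≫ ι₁) (Spec.map χ₂) (by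
        rw [Category.assoc, show ι₁ ≫ (hp.snd q₁).left = _ from hι₁Z]; exact hχ₂.symm)
    have hι₂k : ι₂ ≫ k₂.left = jB ≫ ι₁ := hk₂.lift_fst _ _ _
    have : IsOpenImmersion k₂.left := MorphismProperty.of_isPullback (P := @IsOpenImmersion) hk₂.flip ‹_›
    have : IsOpenImmersion (ι₂ ≫ k₂.left) := by rw [hι₂k]; infer_instance
    have hιo : IsOpenImmersion ι₂ := IsOpenImmersion.of_comp ι₂ k₂.left
    have hι₂U : ι₂ ≫ (hp.fst' q₂).left = Spec.map (CommRingCat.ofHom (algebraMap A B₂)) ≫ hW.fromSpec := by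
      rw [← show k₂.left ≫ tU₁ = (hp.fst' q₂).left from congrArg (fun k => k.left) hk₂U, reassoc_of% hι₂k,
        hι₁U, ← Spec.map_comp_assoc]
      rfl
    have : Algebra.FinitePresentation A B₂ := by
      have := IsLocalization.Away.finitePresentation e (S := B₂)
      exact .trans A (B ⧸ Ideal.span {fB}) _
    have : Module.Flat A B₂ := by
      let y := algebraMap (B ⧸ Ideal.span {fB}) (Localization.Away e₁) (χ₁.hom c)
      have : IsLocalization.Away e (Localization.Away y) := inferInstanceAs (IsLocalization.Away (e₁ * χ₁.hom c) _)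
      have : Module.Flat (Localization.Away e₁) (Localization.Away y) := IsLocalization.flat _ (Submonoid.powers y)
      have : Module.Flat A (Localization.Away y) := Module.Flat.trans A (Localization.Away e₁) _
      exact Module.Flat.of_linearEquiv
        ((IsLocalization.algEquiv (Submonoid.powers e) B₂ (Localization.Away y)).restrictScalars A).toLinearEquiv
    -- a prime of `B₂` over `𝔭`
    let ψ : B →ₐ[A] B₂ :=
      (IsScalarTower.toAlgHom A (B ⧸ Ideal.span {fB}) B₂).comp (Ideal.Quotient.mkₐ A _)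
    have hψ : ∀ I J : Ideal B₂, I.IsPrime → J.IsPrime →
        I.comap ψ.toRingHom ≤ J.comap ψ.toRingHom → I ≤ J := fun I J _ _ h => by
      rw [← IsLocalization.map_under (Submonoid.powers e) B₂ I,
        ← IsLocalization.map_under (Submonoid.powers e) B₂ J]
      refine Ideal.map_mono fun x hx => ?_
      obtain ⟨b, rfl⟩ := Ideal.Quotient.mk_surjective x
      exact h hx
    obtain ⟨φ, hφ, hφmem⟩ := FlatMorSlice.exists_fiberSpec_map ψ hψ 𝔭
    have her : e ∉ r' := fun h => ((inferInstance : r'.IsPrime).mem_or_mem h).elim hc' hvc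
    have hdis : Disjoint (Submonoid.powers e : Set (B ⧸ Ideal.span {fB})) r' := by
      rw [Set.disjoint_left]
      rintro _ ⟨k, rfl⟩ hk
      exact her (Ideal.IsPrime.mem_of_pow_mem inferInstance k hk)
    let qC : 𝔭.primesOver B₂ := ⟨r'.map (algebraMap _ B₂),
      IsLocalization.isPrime_of_isPrime_disjoint (Submonoid.powers e) _ _ inferInstance hdis, ⟨by
        rw [Ideal.under_def, IsScalarTower.algebraMap_eq A (B ⧸ Ideal.span {fB}) B₂, ← Ideal.comap_comap,
          ← Ideal.under_def (B ⧸ Ideal.span {fB}), IsLocalization.under_map_of_isPrime_disjoint (Submonoid.powers e) _ inferInstance hdis]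
        exact (hover m hm.isPrime).symm.trans (by
          show mB.comap (algebraMap A B) = _
          rw [← hr', Ideal.comap_comap]
          rfl)⟩⟩
    have hntC : Nontrivial (𝔭.Fiber B₂) :=
      PrimeSpectrum.nonempty_iff_nontrivial.1 ⟨PrimeSpectrum.primesOverOrderIsoFiber A B₂ 𝔭 qC⟩
    have hf0 : ψ fB = 0 := by
      show algebraMap (B ⧸ Ideal.span {fB}) B₂ (Ideal.Quotient.mk _ fB) = 0
      rw [Ideal.Quotient.eq_zero_iff_mem.2 (Ideal.mem_span_singleton_self fB), map_zero]
    have hg1 : IsUnit (ψ g) := by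
      have h := IsLocalization.Away.algebraMap_isUnit (S := B₂) e
      simp only [e, e₁, map_mul] at h
      exact isUnit_of_mul_isUnit_right (isUnit_of_mul_isUnit_left h)
    have hdrop : ∀ l : LTSeries (PrimeSpectrum (𝔭.Fiber B₂)),
        ((l.length + 1 : ℕ) : WithBot ℕ∞) ≤ ringKrullDim (𝔭.Fiber B) := fun l => by
      have : IsNoetherianRing (𝔭.Fiber B) := Algebra.FiniteType.isNoetherianRing 𝔭.ResidueField _
      let l' := l.map φ hφ
      obtain ⟨P', hP', hP'le⟩ := Ideal.exists_minimalPrimes_le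
        (I := (⊥ : Ideal (𝔭.Fiber B))) (J := l'.head.asIdeal) bot_le
      have hgP' : Algebra.TensorProduct.includeRight g ∉ P' := fun h => by
        have h' := (hφmem l.head g).1 (hP'le h)
        exact l.head.2.ne_top (Ideal.eq_top_of_isUnit_mem _ h' (hg1.map _))
      have hP'ass : P' ∈ associatedPrimes (𝔭.Fiber B) (𝔭.Fiber B) :=
        Module.associatedPrimes.minimalPrimes_annihilator_subset_associatedPrimes (𝔭.Fiber B)
          (𝔭.Fiber B) (by
            rw [show Module.annihilator (𝔭.Fiber B) (𝔭.Fiber B) = ⊥ from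
              Module.annihilator_eq_bot.2 inferInstance]
            exact hP')
      have hP'P : P' = P := by_contra fun h => hgP' (hgQ P' hP'ass h)
      have hlt : (⟨P', hP'.1.1⟩ : PrimeSpectrum (𝔭.Fiber B)) < l'.head := by
        refine lt_of_le_not_ge hP'le fun hle' => hfP ?_
        have hf' := (hφmem l.head fB).2 (by rw [hf0, map_zero]; exact zero_mem _)
        show Algebra.TensorProduct.includeRight fB ∈ P
        rw [← hP'P]
        exact hle' hf'
      refine le_of_eq_of_le ?_ (Order.LTSeries.length_le_krullDim (RelSeries.cons l' ⟨P', hP'.1.1⟩ hlt))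
      rw [RelSeries.cons_length]
      rfl
    cases n with
    | zero =>
      exfalso
      have := (hdrop (RelSeries.singleton _ (PrimeSpectrum.primesOverOrderIsoFiber A B₂ 𝔭 qC))).trans hdim
      simp at this
      norm_num at this
    | succ k =>
      have hdimC : ringKrullDim (𝔭.Fiber B₂) ≤ k := iSup_le fun l => by
        have h := (hdrop l).trans hdim
        norm_cast at h ⊢
        omega
      exact ih k (Nat.lt_succ_self k) Z₂ q₂ (by
        obtain ⟨g', hg'⟩ := hgU
        exact ⟨(j₂ ≫ j₁) ≫ g', by simp only [q₂, q₁, Functor.map_comp, Category.assoc, hg']⟩) (inferInstanceAs (IsAffine (Spec C₂))) hq₂f hq₂p B₂ ι₂ hιo hι₂U hntC hdimC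

include hd hpf hpl hps in
/-- every locally closed point of the chart has a flat quasi-finite slice over it -/
theorem exists_slice {W : U.left.Opens} (hW : IsAffineOpen W) (𝔭 : Ideal Γ(U.left, W)) [𝔭.IsMaximal] :
    ∃ (Z' : Over S) (q' : (yon S).obj Z' ⟶ F), RepWith @Flat q' ∧
      RepWith @LocallyOfFinitePresentation q' ∧ RepWith @LocallyQuasiFinite q' ∧
      (∃ g : Z' ⟶ U, (yon S).map g ≫ p = q') ∧ ∃ x, ((Functor.relativelyRepresentable.of_diag hd p).fst' q').left x =
        hW.fromSpec ⟨𝔭, inferInstance⟩ := by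
  let hp := Functor.relativelyRepresentable.of_diag hd p
  -- start with the chart itself restricted to `W`
  let Z : Over S := Over.mk (W.ι ≫ U.hom)
  let j : Z ⟶ U := Over.homMk W.ι
  have : IsOpenImmersion j.left := inferInstanceAs (IsOpenImmersion W.ι)
  have : IsAffine Z.left := hW
  let q := (yon S).map j ≫ p
  have hqf : RepWith @Flat q := AlgSpLib.RepWith.comp ((repWith_yon_map_iff _ j).2 inferInstance) hpf
  have hqp : RepWith @LocallyOfFinitePresentation q :=
    AlgSpLib.RepWith.comp ((repWith_yon_map_iff _ j).2 inferInstance) hpl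
  have sqT := hp.isPullback' q
  obtain ⟨d, hd'⟩ := (yon S).map_surjective (sqT.lift ((yon S).map j) (𝟙 _) (by rw [Category.id_comp]))
  let tU := (hp.fst' q).left
  have : Flat tU := hqf.property _ _ _ sqT.flip
  have : LocallyOfFinitePresentation tU := hqp.property _ _ _ sqT.flip
  let u : U.left := hW.fromSpec ⟨𝔭, inferInstance⟩
  have huW : u ∈ W := by
    rw [← SetLike.mem_coe, ← hW.range_fromSpec]; exact Set.mem_range_self _
  let x₀ : ↥(hp.pullback q).left := d.left ⟨u, huW⟩
  have hx₀ : tU x₀ = u := by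
    have e : d ≫ hp.fst' q = j := (yon S).map_injective (by rw [Functor.map_comp, hd', sqT.lift_fst])
    show (d.left ≫ (hp.fst' q).left) _ = _
    rw [show d.left ≫ (hp.fst' q).left = W.ι from congrArg (fun k => k.left) e]
    rfl
  obtain ⟨_, ⟨V, (hV : IsAffineOpen V), rfl⟩, hxV, (hVW : V ≤ tU ⁻¹ᵁ W)⟩ :=
    (hp.pullback q).left.isBasis_affineOpens.exists_subset_of_mem_open
      (show x₀ ∈ tU ⁻¹ᵁ W by show tU x₀ ∈ W; rw [hx₀]; exact huW) (tU ⁻¹ᵁ W).isOpen
  let φ := tU.appLE W V hVW
  algebraize [φ.hom]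
  have : Algebra.FinitePresentation Γ(U.left, W) Γ((hp.pullback q).left, V) :=
    LocallyOfFinitePresentation.finitePresentation_appLE tU hW hV hVW
  have : Module.Flat Γ(U.left, W) Γ((hp.pullback q).left, V) := Flat.flat_appLE tU hW hV hVW
  let qp := hV.primeIdealOf ⟨x₀, hxV⟩
  have hqp' : qp.asIdeal.LiesOver 𝔭 := ⟨by
    have h := IsAffineOpen.comap_primeIdealOf_appLE W hW V hV hVW hxV
    have h2 : hW.primeIdealOf ⟨tU x₀, hVW hxV⟩ = ⟨𝔭, inferInstance⟩ := by
      apply hW.fromSpec.isOpenEmbedding.injective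
      rw [hW.fromSpec_primeIdealOf]
      exact hx₀
    exact ((congrArg PrimeSpectrum.asIdeal (h.trans h2))).symm⟩
  have hnt : Nontrivial (𝔭.Fiber Γ((hp.pullback q).left, V)) := PrimeSpectrum.nonempty_iff_nontrivial.1
    ⟨PrimeSpectrum.primesOverOrderIsoFiber _ _ 𝔭 ⟨qp.asIdeal, inferInstance, hqp'⟩⟩
  obtain ⟨n, π, hπ⟩ := Algebra.FiniteType.iff_quotient_mvPolynomial''.1
    (inferInstance : Algebra.FiniteType 𝔭.ResidueField (𝔭.Fiber Γ((hp.pullback q).left, V)))
  refine exists_slice_aux hd hpf hpl hps hW 𝔭 n Z q ⟨j, rfl⟩ inferInstance hqf hqp _ hV.fromSpec inferInstance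
    (hW.SpecMap_appLE_fromSpec tU hV hVW).symm hnt ((ringKrullDim_le_of_surjective π.toRingHom hπ).trans ?_)
  rw [MvPolynomial.ringKrullDim_of_isNoetherianRing, ringKrullDim_eq_zero_of_field, zero_add, Nat.card_fin]

end Groth.Agent.Stk19b.Fppf
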