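import Groth.Agent.Stk19b.Fppf.EtaleChart
import Groth.Agent.AlgSpLib.SheafCoprod

/-!
# Artin's theorem: a sheaf with an fppf cover by an algebraic space is an algebraic space
-/

set_option autoImplicit false
set_option linter.style.haveILetI false
set_option backward.isDefEq.respectTransparency.types false

universe u

open CategoryTheory CategoryTheory.Limits AlgebraicGeometry
open AlgSp

noncomputable section

namespace Groth.Agent.Stk19b.Fppf

open Groth.Agent.AlgSpLib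

variable {S : Scheme.{u}} {F : Sp S}

theorem repWith_of_fppf_chart {U : Over S} {p : (yon S).obj U ⟶ F} (hr : Representable p)
    (h : RepBySpWith (IsSurjectiveMor ⊓ LocP @Flat ⊓ LocP @LocallyOfFinitePresentation) p.hom) :
    RepWith @Flat p ∧ RepWith @LocallyOfFinitePresentation p ∧ RepWith @Surjective p := by
  have key : ∀ (T : Over S) (ξ : (yon S).obj T ⟶ F),
      Flat (hr.snd ξ).left ∧ LocallyOfFinitePresentation (hr.snd ξ).left ∧ Surjective (hr.snd ξ).left :=
    fun T ξ => by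
      obtain ⟨-, ⟨h₁, h₂⟩, h₃⟩ := (repBySpWith_hom_iff _ p).1 h ξ _ _ (hr.isPullback ξ)
      exact ⟨locP_yon_map h₂, locP_yon_map h₃, (surjective_map_yon_map_iff _).1 h₁⟩
  exact ⟨MorphismProperty.relative.of_exists fun T ξ => ⟨_, _, _, hr.isPullback ξ, (key T ξ).1⟩,
    MorphismProperty.relative.of_exists fun T ξ => ⟨_, _, _, hr.isPullback ξ, (key T ξ).2.1⟩,
    MorphismProperty.relative.of_exists fun T ξ => ⟨_, _, _, hr.isPullback ξ, (key T ξ).2.2⟩⟩

set_option maxHeartbeats 800000 in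
theorem isAlgSpace_of_fppf_cover_yon {U : Over S} (p : (yon S).obj U ⟶ F)
    (h : RepBySpWith (IsSurjectiveMor ⊓ LocP @Flat ⊓ LocP @LocallyOfFinitePresentation) p.hom) :
    IsAlgSpace F := by
  have hd := representable_diag_of_fppf_cover (IsAlgSpace.yon_obj U) p h
  have hp : Representable p := Functor.relativelyRepresentable.of_diag hd p
  obtain ⟨hpf, hpl, hps⟩ := repWith_of_fppf_chart hp h
  let I : Type u := Σ W : U.left.affineOpens, {P : Ideal Γ(U.left, W.1) // P.IsMaximal}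
  have key : ∀ i : I, ∃ (M : Over S) (m : (yon S).obj M ⟶ F), RepWith @Etale m ∧
      ∃ w : ↥(hp.pullback m).left, (hp.fst' m).left w =
        i.1.2.fromSpec ⟨i.2.1, i.2.2.isPrime⟩ := by
    rintro ⟨⟨W₀, hW₀⟩, P, hP⟩
    obtain ⟨Z, q, hqf, hqp, hqq, -, x, hx⟩ := exists_slice hd hpf hpl hps hW₀ P
    have sqT := hp.isPullback' q
    let z := (hp.snd q).left x
    obtain ⟨Za, hZa, hzZa, -⟩ := exists_isAffineOpen_mem_and_subset (X := Z.left) (x := z) (U := ⊤) trivial
    let Z' : Over S := Over.mk (Za.ι ≫ Z.hom)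
    let j : Z' ⟶ Z := Over.homMk Za.ι
    have : IsOpenImmersion j.left := inferInstanceAs (IsOpenImmersion Za.ι)
    have : IsAffine Z'.left := hZa
    let q' := (yon S).map j ≫ q
    obtain ⟨x', hx'⟩ := exists_point sqT j (hp.isPullback' q') x ⟨z, hzZa⟩ rfl
    have hjR : RepWith @IsOpenImmersion ((yon S).map j) := (repWith_yon_map_iff _ j).2 inferInstance
    have hlqf : RepWith @LocallyQuasiFinite ((yon S).map j) := (repWith_yon_map_iff _ j).2 inferInstance
    obtain ⟨M, W, m, π, σ, w, hm, hπσ, hw⟩ := exists_etale_chart hd q'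
      (RepWith.comp ((repWith_yon_map_iff _ j).2 inferInstance) hqf)
      (RepWith.comp ((repWith_yon_map_iff _ j).2 inferInstance) hqp)
      (RepWith.comp hlqf hqq) ((hp.snd q').left x')
    obtain ⟨x₃, hx₃⟩ := exists_point (hp.isPullback' q') σ (hp.isPullback' ((yon S).map σ ≫ q')) x' w hw.symm
    have sq' := hp.isPullback' ((yon S).map σ ≫ q')
    obtain ⟨k, -, hk⟩ := exists_isPullback_comp (hp.isPullback' m) π
      (a' := hp.fst' ((yon S).map σ ≫ q')) (b' := hp.snd ((yon S).map σ ≫ q')) (hπσ ▸ sq')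
    refine ⟨M, m, hm, k.left x₃, ?_⟩
    rw [← Scheme.Hom.comp_apply, show k.left ≫ (hp.fst' m).left = _ from congrArg (fun k => k.left) hk]
    exact hx₃.trans (hx'.trans hx)
  choose M m hm w hw using key
  let G : U.left.Opens := ⟨⋃ i, Set.range (hp.fst' (m i)).left, isOpen_iUnion fun i => by
    have : Etale (hp.fst' (m i)).left := (hm i).property _ _ _ (hp.isPullback' (m i)).flip
    exact (hp.fst' (m i)).left.isOpenMap.isOpen_range⟩
  have hG : ∀ y, y ∈ G := by
    intro y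
    by_contra hy
    obtain ⟨W₀, hW₀, hyW, -⟩ := exists_isAffineOpen_mem_and_subset (X := U.left) (x := y) (U := ⊤) trivial
    let C : Set (PrimeSpectrum Γ(U.left, W₀)) := hW₀.fromSpec ⁻¹' (G : Set ↥U.left)ᶜ
    have hC : IsClosed C := G.isOpen.isClosed_compl.preimage hW₀.fromSpec.continuous
    obtain ⟨I', hI⟩ := (PrimeSpectrum.isClosed_iff_zeroLocus_ideal C).1 hC
    have hmem : hW₀.primeIdealOf ⟨y, hyW⟩ ∈ C := by
      show hW₀.fromSpec _ ∈ (G : Set ↥U.left)ᶜ
      rw [hW₀.fromSpec_primeIdealOf]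
      exact hy
    obtain ⟨P, hP, hPle⟩ := (hW₀.primeIdealOf ⟨y, hyW⟩).asIdeal.exists_le_maximal
      (hW₀.primeIdealOf ⟨y, hyW⟩).2.ne_top
    have : (⟨P, hP.isPrime⟩ : PrimeSpectrum Γ(U.left, W₀)) ∈ C := by
      rw [hI] at hmem ⊢
      exact fun a ha => hPle (hmem ha)
    exact this (Set.mem_iUnion.2 ⟨⟨⟨W₀, hW₀⟩, ⟨P, hP⟩⟩, w _, hw ⟨⟨W₀, hW₀⟩, ⟨P, hP⟩⟩⟩)
  obtain ⟨ψ, hψe, hψs⟩ := exists_etale_surjective_of_family M m hm fun x => by
    obtain ⟨y', rfl⟩ := surjective_map_of_repWith hps x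
    obtain ⟨y, rfl⟩ := (Points.schemeHomeo U).surjective y'
    obtain ⟨i, z, rfl⟩ := Set.mem_iUnion.1 (hG y)
    refine ⟨i, Points.schemeHomeo _ ((hp.snd (m i)).left z), ?_⟩
    rw [← AlgSp.Points.map_yon_map_apply, ← AlgSp.Points.map_yon_map_apply, ← Points.map_comp,
      ← Points.map_comp, (hp.isPullback' (m i)).w]
  exact isAlgSpace_of_etale_surjective (IsAlgSpace.yon_obj _) ψ hψe hψs

/-- Artin's theorem on fppf covers. -/
theorem isAlgSpace_of_fppf_cover {X : Sp S} (hX : IsAlgSpace X) (a : X ⟶ F)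
    (h : RepBySpWith (IsSurjectiveMor ⊓ LocP @Flat ⊓ LocP @LocallyOfFinitePresentation) a.hom) :
    IsAlgSpace F := by
  have := etLocal_flat.{u}
  obtain ⟨U, e, hae, has⟩ := hX.atlas
  refine isAlgSpace_of_fppf_cover_yon (e ≫ a) ((repBySpWith_hom_iff _ _).2 fun T ξ F' fst snd sq => ?_)
  have sqP := IsPullback.of_hasPullback a ξ
  obtain ⟨hP, ⟨h₁, h₂⟩, h₃⟩ := (repBySpWith_hom_iff _ a).1 h ξ _ _ sqP
  let y := sqP.lift (fst ≫ e) snd (by rw [Category.assoc, sq.w])
  have sqy : IsPullback fst y e (pullback.fst a ξ) :=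
    IsPullback.of_bot (by rw [sqP.lift_snd]; exact sq) (sqP.lift_fst _ _ _).symm sqP
  have hF' := isAlgSpace_of_isPullback hX.diag (IsAlgSpace.yon_obj U) hP sqy
  have hy := RepWith.baseChange sqy hae
  refine ⟨hF', ⟨?_, ?_⟩, ?_⟩
  · intro t
    obtain ⟨z, rfl⟩ := h₁ t
    obtain ⟨w, rfl⟩ := surjective_map_of_repWith (RepWith.baseChange sqy has) z
    exact ⟨w, by rw [← Points.map_comp, sqP.lift_snd]⟩
  · rw [← sqP.lift_snd (fst ≫ e) snd (by rw [Category.assoc, sq.w])]
    exact locP_comp etLocal_flat hF' hP (IsAlgSpace.yon_obj T)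
      (locP_of_repWith etLocal_flat hF' (RepWith.mono etale_le_flat hy)) h₂
  · rw [← sqP.lift_snd (fst ≫ e) snd (by rw [Category.assoc, sq.w])]
    exact locP_comp etLocal_lfp hF' hP (IsAlgSpace.yon_obj T)
      (locP_of_repWith etLocal_lfp hF' (RepWith.mono etale_le_lfp hy)) h₃

end Groth.Agent.Stk19b.Fppf
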