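import Groth.Agent.Stk19b.Fppf.Basic
import Groth.Agent.GrpdLib.QuotientScheme
import Groth.Agent.GrpdLib.FppfQuot
import Groth.Agent.GrpdLib.OrbitScheme
import Groth.Agent.AlgSpLib.FppfSource
import Groth.Agent.Desc19b.Source
import Mathlib.AlgebraicGeometry.Sites.Fpqc

/-!
# An open finite equivalence relation inside the self-product of a chart gives an etale chart
-/

set_option autoImplicit false
set_option linter.style.haveILetI false
set_option backward.isDefEq.respectTransparency.types false

universe u

open CategoryTheory CategoryTheory.Limits AlgebraicGeometry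
open AlgSp

noncomputable section

namespace Groth.Agent.Stk19b.Fppf

open Groth.Agent.AlgSpLib

variable {S : Scheme.{u}}

theorem isPullback_fst_snd_of_eq {X F : Sp S} {f g : X ⟶ F} (h : f = g) :
    IsPullback (pullback.fst f f) (pullback.snd f f) g g := by
  subst h; exact IsPullback.of_hasPullback f f

set_option maxHeartbeats 800000 in
theorem exists_etale_of_finite_rel {F : Sp S} (hd : Representable (Limits.diag F)) {W R : Over S}
    [IsAffine W.left] [IsAffine R.left] {s t : R ⟶ W} (h : IsEqvRel s t) [IsFinite s.left] [Flat s.left]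
    [LocallyOfFinitePresentation s.left] (qW : (yon S).obj W ⟶ F) (hqf : RepWith @Flat qW)
    (hqp : RepWith @LocallyOfFinitePresentation qW)
    (w : (yon S).map t ≫ qW = (yon S).map s ≫ qW)
    (hj : RepWith @IsOpenImmersion (pullback.lift ((yon S).map t) ((yon S).map s) w)) :
    ∃ (M : Over S) (m : (yon S).obj M ⟶ F) (π : W ⟶ M), RepWith @Etale m ∧ (yon S).map π ≫ m = qW := by
  let G := grpd h
  have : IsAffine G.U := ‹IsAffine W.left›
  have : IsAffine G.R := ‹IsAffine R.left›
  have : IsFinite G.s := ‹IsFinite s.left›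
  have : Flat G.s := ‹Flat s.left›
  have : LocallyOfFinitePresentation G.s := ‹LocallyOfFinitePresentation s.left›
  have : Mono G.j := mono_grpd_j h
  obtain ⟨⟨hf₁, hf₂, hf₃⟩, φ, hφt, hφs⟩ := GrpdLib.finite_flat_quotient_scheme G
  have : Surjective G.toQuot := ⟨(GrpdLib.toQuot_surjective_and_fibres G).1.1⟩
  have sqR : IsPullback G.t G.s G.toQuot G.toQuot :=
    IsPullback.of_iso_pullback ⟨by rw [← hφt, ← hφs, Category.assoc, Category.assoc, pullback.condition]⟩ φ hφt hφs
  have hdesc : ∀ {T : Scheme.{u}} (g₁ g₂ : T ⟶ G.U), g₁ ≫ G.toQuot = g₂ ≫ G.toQuot → g₁ ≫ G.pU = g₂ ≫ G.pU := by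
    intro T g₁ g₂ hg
    obtain ⟨l, rfl, rfl⟩ := sqR.exists_lift g₁ g₂ hg
    rw [Category.assoc, Category.assoc, G.t_over, G.s_over]
  have hee : EffectiveEpi G.toQuot := inferInstance
  have : Flat G.toQuot := hf₂
  let M : Over S := Over.mk (EffectiveEpi.desc G.toQuot G.pU hdesc)
  let π : W ⟶ M := Over.homMk G.toQuot (EffectiveEpi.fac G.toQuot G.pU hdesc)
  have : Flat π.left := hf₂
  have : LocallyOfFinitePresentation π.left := hf₃
  have : Surjective π.left := ‹Surjective G.toQuot›
  have sqO : IsPullback t s π π :=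
    IsPullback.of_map (Over.forget S) (Over.OverMorphism.ext sqR.w) sqR
  have sqY := sqO.map (yon S)
  have hπf : RepWith @Flat ((yon S).map π) := (repWith_yon_map_iff _ π).2 ‹_›
  have hπl : RepWith @LocallyOfFinitePresentation ((yon S).map π) := (repWith_yon_map_iff _ π).2 ‹_›
  have hπs : RepWith @Surjective ((yon S).map π) := (repWith_yon_map_iff _ π).2 ‹_›
  have := isLocallySurjective_of_repWith hπf hπl hπs
  have : Epi ((yon S).map π) := Sheaf.epi_of_isLocallySurjective _
  have wπ : (yon S).map s ≫ (yon S).map π = (yon S).map t ≫ (yon S).map π := sqY.w.symm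
  have : IsIso (pullback.lift ((yon S).map t) ((yon S).map s) wπ.symm :
      (yon S).obj R ⟶ pullback ((yon S).map π) ((yon S).map π)) := by
    have e : pullback.lift ((yon S).map t) ((yon S).map s) wπ.symm = sqY.isoPullback.hom := by
      apply pullback.hom_ext
      · exact (pullback.lift_fst _ _ _).trans sqY.isoPullback_hom_fst.symm
      · exact (pullback.lift_snd _ _ _).trans sqY.isoPullback_hom_snd.symm
    rw [e]; infer_instance
  have := isIso_quotSpDesc ((yon S).map π) wπ
  let m : (yon S).obj M ⟶ F := inv (quotSpDesc ((yon S).map π) wπ) ≫ quotSpDesc qW w.symm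
  have hπm : (yon S).map π ≫ m = qW := by
    simp only [m]
    rw [← Category.assoc, show (yon S).map π ≫ inv (quotSpDesc ((yon S).map π) wπ) =
      quotSpπ ((yon S).map s) ((yon S).map t) by rw [IsIso.comp_inv_eq]; exact (quotSpπ_desc _ _ _ _).symm]
    exact quotSpπ_desc _ _ _ _
  refine ⟨M, m, π, ?_, hπm⟩
  have hm : Representable m := Functor.relativelyRepresentable.of_diag hd m
  -- unramified
  have sqe := isPullback_fst_snd_of_eq (f := qW) hπm.symm
  let e := sqe.isoPullback
  have e₁ : e.hom ≫ pullback.fst _ _ = pullback.fst qW qW := sqe.isoPullback_hom_fst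
  have e₂ : e.hom ≫ pullback.snd _ _ = pullback.snd qW qW := sqe.isoPullback_hom_snd
  have hδ : RepWith @Etale (pullback.diagonal m) := repWith_diagonal_of_cover ((yon S).map π) m hπf hπl hπs
    (IsAlgSpace.yon_obj M).diag sqY @Etale (pullback.lift ((yon S).map t) ((yon S).map s) w ≫ e.hom)
    (by rw [Category.assoc, e₁, pullback.lift_fst])
    (by rw [Category.assoc, e₂, pullback.lift_snd])
    (RepWith.comp (RepWith.mono (fun _ _ k (_ : IsOpenImmersion k) => (inferInstance : Etale k)) hj)
      (repWith_of_isIso _ _))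
  have hδo := repWith_isOpenImmersion_of_etale_mono hδ
  refine ⟨hm, fun {a b} g fst snd sq => ?_⟩
  obtain ⟨fst', rfl⟩ := (yon S).map_surjective fst
  have ho : IsOpenImmersion (pullback.diagonal snd.left) :=
    (repWith_diagonal_yon_map_iff _ snd).1 (RepWith.baseChange (isPullback_diagonal_map sq) hδo)
  have : FormallyUnramified snd.left := inferInstance
  -- flat and finitely presented
  have sqT := (IsPullback.of_hasPullback fst' π).map (yon S)
  have sqc : IsPullback ((yon S).map (pullback.snd fst' π)) ((yon S).map (pullback.fst fst' π ≫ snd)) qW g := by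
    rw [← hπm, Functor.map_comp]
    exact sqT.flip.paste_vert sq
  have sqS := (IsPullback.of_hasPullback fst' π).map (Over.forget S)
  have h₁ : Flat (pullback.fst fst' π).left := MorphismProperty.of_isPullback (P := @Flat) sqS.flip ‹_›
  have h₂ : LocallyOfFinitePresentation (pullback.fst fst' π).left :=
    MorphismProperty.of_isPullback (P := @LocallyOfFinitePresentation) sqS.flip ‹_›
  have h₃ : Surjective (pullback.fst fst' π).left := MorphismProperty.of_isPullback (P := @Surjective) sqS.flip ‹_›
  have hc₁ : Flat ((pullback.fst fst' π).left ≫ snd.left) := hqf.property _ _ _ sqc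
  have hc₂ : LocallyOfFinitePresentation ((pullback.fst fst' π).left ≫ snd.left) := hqp.property _ _ _ sqc
  have : Flat snd.left := Flat.of_stalkMap _ fun x => by
    obtain ⟨z, rfl⟩ := (pullback.fst fst' π).left.surjective x
    exact (Desc19b.flat_stalkMap_comp_iff _ _ z (Flat.stalkMap _ z)).1 (Flat.stalkMap _ z)
  have : LocallyOfFinitePresentation snd.left := lfp_of_comp_fppf (pullback.fst fst' π).left snd.left hc₂
  exact Etale.of_formallyUnramified_of_flat snd.left

end Groth.Agent.Stk19b.Fppf
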