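import Groth.Agent.Stk19b.Fppf.PartRel
import Groth.Agent.Stk19b.Fppf.FiniteQuot

/-!
# Restricting an open equivalence relation to an open
-/

set_option autoImplicit false
set_option linter.style.haveILetI false
set_option backward.isDefEq.respectTransparency.types false

universe u

open CategoryTheory CategoryTheory.Limits AlgebraicGeometry
open AlgSp

noncomputable section

namespace Groth.Agent.Stk19b.Fppf

variable {S : Scheme.{u}}

theorem morphismRestrict_of_le {X Y : Scheme.{u}} (P : MorphismProperty Scheme.{u}) [P.IsStableUnderBaseChange]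
    (f : X ⟶ Y) {U U' : Y.Opens} (hUU : U' ≤ U) (h : P (f ∣_ U)) : P (f ∣_ U') := by
  refine MorphismProperty.of_isPullback (P := P) (f := Y.homOfLE hUU) (g := f ∣_ U)
    (f' := X.homOfLE (f.preimage_mono hUU)) (g' := f ∣_ U') ?_ h
  refine IsPullback.of_right (h₁₂ := (f ⁻¹ᵁ U).ι) (h₂₂ := U.ι) (v₁₃ := f) ?_
    (morphismRestrict_homOfLE f _ _ hUU).symm (isPullback_morphismRestrict f U).flip
  rw [Scheme.homOfLE_ι, Scheme.homOfLE_ι]
  exact (isPullback_morphismRestrict f U').flip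

theorem of_range_restrict {R X Y : Scheme.{u}} (P : MorphismProperty Scheme.{u}) [P.RespectsIso]
    (f : X ⟶ Y) (N : Y.Opens) (h : P (f ∣_ N)) (j : R ⟶ X) [IsOpenImmersion j]
    (hj : Set.range j = f ⁻¹' N) (s : R ⟶ N.toScheme) (hs : s ≫ N.ι = j ≫ f) : P s := by
  let e := IsOpenImmersion.isoOfRangeEq j (f ⁻¹ᵁ N).ι (by rw [hj, Scheme.Opens.range_ι]; rfl)
  have : s = e.hom ≫ (f ∣_ N) := by
    rw [← cancel_mono N.ι, hs, Category.assoc, morphismRestrict_ι]
    simp only [e, IsOpenImmersion.isoOfRangeEq_hom_fac_assoc]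
  rw [this]
  exact (P.cancel_left_of_respectsIso e.hom _).2 h

/-- The arrows with both ends in `N`. -/
def relRestrict {K O : Over S} (ks kt : K ⟶ O) (A : K.left.Opens) (N : O.left.Opens) : Over S :=
  Over.mk ((A ⊓ ks.left ⁻¹ᵁ N ⊓ kt.left ⁻¹ᵁ N).ι ≫ K.hom)

variable {K O : Over S} (ks kt : K ⟶ O) (A : K.left.Opens) (N : O.left.Opens)

/-- The inclusion of the restricted arrows. -/
def relι : relRestrict ks kt A N ⟶ K := Over.homMk (A ⊓ ks.left ⁻¹ᵁ N ⊓ kt.left ⁻¹ᵁ N).ι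

theorem exists_relEnd :
    ∃ s t : relRestrict ks kt A N ⟶ Over.mk (N.ι ≫ O.hom),
      s ≫ (Over.homMk N.ι : Over.mk (N.ι ≫ O.hom) ⟶ O) = relι ks kt A N ≫ ks ∧
      t ≫ (Over.homMk N.ι : Over.mk (N.ι ≫ O.hom) ⟶ O) = relι ks kt A N ≫ kt := by
  obtain ⟨s, hs⟩ := exists_lift_opens (relι ks kt A N ≫ ks) N fun x => (show x.1 ∈ _ from x.2).1.2
  obtain ⟨t, ht⟩ := exists_lift_opens (relι ks kt A N ≫ kt) N fun x => (show x.1 ∈ _ from x.2).2
  exact ⟨s, t, hs, ht⟩

/-- restricting an equivalence relation to an open -/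
theorem isEqvRel_restrict
    (h : IsEqvRel ((Over.homMk A.ι : Over.mk (A.ι ≫ K.hom) ⟶ K) ≫ ks)
      ((Over.homMk A.ι : Over.mk (A.ι ≫ K.hom) ⟶ K) ≫ kt))
    {s t : relRestrict ks kt A N ⟶ Over.mk (N.ι ≫ O.hom)}
    (hs : s ≫ (Over.homMk N.ι : Over.mk (N.ι ≫ O.hom) ⟶ O) = relι ks kt A N ≫ ks)
    (ht : t ≫ (Over.homMk N.ι : Over.mk (N.ι ≫ O.hom) ⟶ O) = relι ks kt A N ≫ kt) : IsEqvRel s t := by
  let iN : Over.mk (N.ι ≫ O.hom) ⟶ O := Over.homMk N.ι
  let jA : Over.mk (A.ι ≫ K.hom) ⟶ K := Over.homMk A.ι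
  let jR := relι ks kt A N
  have : Mono iN := (Over.forget S).mono_of_mono_map (inferInstanceAs (Mono N.ι))
  have : Mono jR := (Over.forget S).mono_of_mono_map
    (inferInstanceAs (Mono (A ⊓ ks.left ⁻¹ᵁ N ⊓ kt.left ⁻¹ᵁ N).ι))
  obtain ⟨i, hi⟩ := exists_lift_opens jR A fun x => (show x.1 ∈ _ from x.2).1.1
  have hi' : i ≫ jA = jR := hi
  have key : ∀ {T : Over S} (a b : T ⟶ Over.mk (N.ι ≫ O.hom)),
      (∃ r, r ≫ t = a ∧ r ≫ s = b) ↔ ∃ r, r ≫ jA ≫ kt = a ≫ iN ∧ r ≫ jA ≫ ks = b ≫ iN := by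
    intro T a b
    constructor
    · rintro ⟨r, rfl, rfl⟩
      exact ⟨r ≫ i, by rw [Category.assoc, reassoc_of% hi', ← ht, Category.assoc],
        by rw [Category.assoc, reassoc_of% hi', ← hs, Category.assoc]⟩
    · rintro ⟨r, h₁, h₂⟩
      obtain ⟨l, hl⟩ := exists_lift_opens (r ≫ jA) (A ⊓ ks.left ⁻¹ᵁ N ⊓ kt.left ⁻¹ᵁ N) fun x => by
        refine ⟨⟨(r.left x).2, ?_⟩, ?_⟩
        · show (r ≫ jA ≫ ks).left x ∈ N
          rw [h₂]
          exact (b.left x).2
        · show (r ≫ jA ≫ kt).left x ∈ N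
          rw [h₁]
          exact (a.left x).2
      have hl' : l ≫ jR = r ≫ jA := hl
      refine ⟨l, ?_, ?_⟩
      · rw [← cancel_mono iN, Category.assoc, ht]
        exact (Category.assoc _ _ _).symm.trans ((congrArg (· ≫ kt) hl').trans ((Category.assoc _ _ _).trans h₁))
      · rw [← cancel_mono iN, Category.assoc, hs]
        exact (Category.assoc _ _ _).symm.trans ((congrArg (· ≫ ks) hl').trans ((Category.assoc _ _ _).trans h₂))
  refine ⟨fun T r r' h₁ h₂ => ?_, fun T => ⟨fun a => ?_, fun {a b} hab => ?_, fun {a b c} hab hbc => ?_⟩⟩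
  · rw [← cancel_mono jR]
    have e : r ≫ i = r' ≫ i := by
      refine h.injective T _ _ ?_ ?_
      · simp only [Category.assoc]
        rw [reassoc_of% hi', ← ht, reassoc_of% h₁]
      · simp only [Category.assoc]
        rw [reassoc_of% hi', ← hs, reassoc_of% h₂]
    rw [← hi', reassoc_of% e]
  · exact (key a a).2 ((h.equivalence T).refl _)
  · exact (key b a).2 ((h.equivalence T).symm ((key a b).1 hab))
  · exact (key a c).2 ((h.equivalence T).trans ((key a b).1 hab) ((key b c).1 hbc))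

end Groth.Agent.Stk19b.Fppf
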