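import Groth.Agent.Stk19b.Fppf.PartChart
import Groth.Agent.Stk19b.Fppf.RestrictRel
import Groth.Agent.Stk19b.Fppf.Split
import Groth.Agent.GrpdLib.InvariantAffine

/-!
# A quasi-finite flat chart gives an etale chart through each of its points
-/

set_option autoImplicit false
set_option linter.style.haveILetI false
set_option backward.isDefEq.respectTransparency.types false

universe u

open CategoryTheory CategoryTheory.Limits AlgebraicGeometry
open AlgSp

noncomputable section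

namespace Groth.Agent.Stk19b.Fppf

open Groth.Agent.AlgSpLib

variable {S : Scheme.{u}}

theorem isSeparated_snd {F : Sp S} {V : Over S} [IsAffine V.left] {q : (yon S).obj V ⟶ F}
    (hq : Representable q) : IsSeparated (hq.snd q).left := by
  let l : (hq.pullback q).left ⟶ pullback V.hom V.hom :=
    pullback.lift (hq.fst' q).left (hq.snd q).left ((Over.w _).trans (Over.w _).symm)
  have h₁ : l ≫ pullback.fst _ _ = (hq.fst' q).left := pullback.lift_fst _ _ _
  have h₂ : l ≫ pullback.snd _ _ = (hq.snd q).left := pullback.lift_snd _ _ _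
  have : Mono l := by
    refine ⟨fun {T} a b e => ?_⟩
    let TT : Over S := Over.mk (a ≫ (hq.pullback q).hom)
    have es : a ≫ (hq.snd q).left = b ≫ (hq.snd q).left := by rw [← h₂, reassoc_of% e]
    have et : a ≫ (hq.fst' q).left = b ≫ (hq.fst' q).left := by rw [← h₁, reassoc_of% e]
    have hb : b ≫ (hq.pullback q).hom = a ≫ (hq.pullback q).hom := by
      rw [← Over.w (hq.snd q), ← Category.assoc, ← Category.assoc, es]
    let a' : TT ⟶ hq.pullback q := Over.homMk a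
    let b' : TT ⟶ hq.pullback q := Over.homMk b hb
    have : a' = b' := (yon S).map_injective ((hq.isPullback' q).hom_ext
      (by simp only [← Functor.map_comp]; exact congrArg _ (Over.OverMorphism.ext et))
      (by simp only [← Functor.map_comp]; exact congrArg _ (Over.OverMorphism.ext es)))
    exact congrArg (fun k => k.left) this
  rw [← h₂]
  have : IsSeparated V.hom := by
    have : IsSeparated (V.hom ≫ terminal.from S) := by
      rw [Subsingleton.elim (V.hom ≫ terminal.from S) (terminal.from _)]; infer_instance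
    exact IsSeparated.of_comp V.hom (terminal.from S)
  infer_instance

set_option maxHeartbeats 1600000 in
/-- an etale chart through any point of a flat quasi-finite chart -/
theorem exists_etale_chart {F : Sp S} (hd : Representable (Limits.diag F)) {V : Over S} [IsAffine V.left]
    (q : (yon S).obj V ⟶ F) (hqf : RepWith @Flat q) (hqp : RepWith @LocallyOfFinitePresentation q)
    (hqq : RepWith @LocallyQuasiFinite q) (u : ↥V.left) :
    ∃ (M W : Over S) (m : (yon S).obj M ⟶ F) (π : W ⟶ M) (σ : W ⟶ V) (z : ↥W.left),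
      RepWith @Etale m ∧ (yon S).map π ≫ m = (yon S).map σ ≫ q ∧ σ.left z = u := by
  have hq : Representable q := Functor.relativelyRepresentable.of_diag hd q
  have sqR := hq.isPullback' q
  let s := (hq.snd q).left
  have : IsSeparated s := isSeparated_snd hq
  have : Flat s := hqf.property _ _ _ sqR
  have : LocallyOfFinitePresentation s := hqp.property _ _ _ sqR
  have : LocallyQuasiFinite s := hqq.property _ _ _ sqR
  obtain ⟨e₀, he⟩ := (yon S).map_surjective (sqR.lift (𝟙 _) (𝟙 _) rfl)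
  have he₁ : e₀ ≫ hq.fst' q = 𝟙 V :=
    (yon S).map_injective (by rw [Functor.map_comp, he, sqR.lift_fst, CategoryTheory.Functor.map_id])
  have he₂ : e₀ ≫ hq.snd q = 𝟙 V :=
    (yon S).map_injective (by rw [Functor.map_comp, he, sqR.lift_snd, CategoryTheory.Functor.map_id])
  let x₀ : ↥(hq.pullback q).left := e₀.left u
  have hx₀ : s x₀ = u := congrArg (fun k : V ⟶ V => k.left u) he₂
  obtain ⟨U, g, v', hn, W₁, v, hW₁, hfin, hvW, hv₁, hv₂, huniq⟩ :=
    exists_point_split s hx₀ (s.quasiFiniteAt x₀)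
  have hgE : Etale g := hn.etale
  have hgu : g v' = u := by obtain ⟨-, h, -⟩ := hn; exact h
  -- the neighbourhood and the part
  let V' : Over S := Over.mk (g ≫ V.hom)
  let g' : V' ⟶ V := Over.homMk g
  have sqS := (IsPullback.of_hasPullback (hq.snd q) g').map (Over.forget S)
  let e : (pullback (hq.snd q) g').left ≅ pullback s g := sqS.isoPullback
  have ee₁ : e.hom ≫ pullback.fst s g = (pullback.fst (hq.snd q) g').left := sqS.isoPullback_hom_fst
  have ee₂ : e.hom ≫ pullback.snd s g = (pullback.snd (hq.snd q) g').left := sqS.isoPullback_hom_snd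
  let OD : (pullback (hq.snd q) g').left.Opens := e.hom ⁻¹ᵁ W₁
  have hODc : IsClosed (OD : Set ↥(pullback (hq.snd q) g').left) := hW₁.1.preimage e.hom.continuous
  have hODf : IsFinite (OD.ι ≫ (pullback.snd (hq.snd q) g').left) := by
    rw [← ee₂, ← Category.assoc, ← morphismRestrict_ι, Category.assoc]
    infer_instance
  let D : Part hq := ⟨V', g', hgE, OD, hODc, hODf⟩
  obtain ⟨O, gO, πO, hg, hπE, hπS, hgOE, hgOS, hO⟩ := exists_part_quot D hqf hqp
  let qO := (yon S).map gO ≫ q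
  have hr : Representable qO := Functor.relativelyRepresentable.of_diag hd qO
  obtain ⟨A, hA, hEqv⟩ := exists_rel_locus D gO πO hqf hqp hg hO qO rfl hr
  obtain ⟨L, lK, a, Ψ, O₁, σ, l₀, sqAV, hO₁, hσ₁, hσ₂, hΨa, hopen, hrange, hl₀, hl₀A, hl₀t⟩ :=
    exists_open_piece D gO πO hg hO qO rfl hr A hA e₀ he₁ he₂
  let K := hr.pullback qO
  let ks := hr.snd qO
  let kt := hr.fst' qO
  let A₁ := A ⊓ kt.left ⁻¹ᵁ O₁
  let AV := lK.left ⁻¹ᵁ A₁
  -- the distinguished point
  have hfib : ∀ z : ↥(pullback (hq.snd q) g').left, z ∈ OD →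
      (pullback.snd (hq.snd q) g').left z = v' → z = e.inv v := by
    intro z hz hzv
    have h : e.hom z = v := huniq _ hz (by rw [← Scheme.Hom.comp_apply, ee₂]; exact hzv)
    rw [← h, ← Scheme.Hom.comp_apply, Iso.hom_inv_id]
    rfl
  have hσv₂ : (pullback.snd (hq.snd q) g').left (σ.left v') = v' := congrArg (fun k : V' ⟶ V' => k.left v') hσ₂
  have hσv₁ : (pullback.fst (hq.snd q) g').left (σ.left v') = x₀ := by
    rw [show (pullback.fst (hq.snd q) g').left (σ.left v') = e₀.left (g v') from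
      congrArg (fun k : V' ⟶ hq.pullback q => k.left v') hσ₁, hgu]
  have hσv : σ.left v' = e.inv v := by
    obtain ⟨φ, hφi, hφ⟩ := FlatMor12.exists_fiber_iso s hn
    obtain ⟨z₁, hz₁⟩ : e.hom (σ.left v') ∈ Set.range ((pullback.snd s g).fiberι v') := by
      rw [Scheme.Hom.range_fiberι, Set.mem_preimage, Set.mem_singleton_iff, ← Scheme.Hom.comp_apply, ee₂]
      exact hσv₂
    obtain ⟨z₂, hz₂⟩ : v ∈ Set.range ((pullback.snd s g).fiberι v') := by
      rw [Scheme.Hom.range_fiberι]; exact hv₂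
    have h12 : z₁ = z₂ := by
      refine φ.isOpenEmbedding.injective ((s.fiberι u).isEmbedding.injective ?_)
      rw [← Scheme.Hom.comp_apply, ← Scheme.Hom.comp_apply, hφ, Scheme.Hom.comp_apply,
        Scheme.Hom.comp_apply, hz₁, hz₂, hv₁, ← Scheme.Hom.comp_apply, ee₁]
      exact hσv₁
    rw [← hz₂, ← h12, hz₁, ← Scheme.Hom.comp_apply, Iso.hom_inv_id]
    rfl
  have hv₀OD : σ.left v' ∈ OD := by
    show e.hom (σ.left v') ∈ W₁
    rw [hσv, ← Scheme.Hom.comp_apply, Iso.inv_hom_id]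
    exact hvW
  have hv₀1 : πO.left v' ∈ O₁ := (hO₁ v').2 hv₀OD
  -- the open piece
  let fA := AV.ι ≫ a.left
  let πD := OD.ι ≫ (pullback.snd (hq.snd q) g').left
  let θ : AV.toScheme ⟶ OD.toScheme := IsOpenImmersion.lift OD.ι (AV.ι ≫ Ψ.left) (by
    rintro _ ⟨z, rfl⟩
    rw [Scheme.Opens.range_ι]
    exact hrange _ z.2)
  have hθ : θ ≫ OD.ι = AV.ι ≫ Ψ.left := IsOpenImmersion.lift_fac _ _ _
  have : IsOpenImmersion (θ ≫ OD.ι) := by rw [hθ]; exact hopen
  have : IsOpenImmersion θ := IsOpenImmersion.of_comp θ OD.ι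
  have hθπ : θ ≫ πD = fA := by
    simp only [πD, fA, reassoc_of% hθ]
    rw [← show Ψ.left ≫ (pullback.snd (hq.snd q) g').left = a.left from congrArg (fun k => k.left) hΨa]
  let bad : Set ↥V'.left := πD '' (Set.range θ)ᶜ
  have hbad : IsClosed bad := by
    have : IsFinite πD := hODf
    exact πD.isClosedMap _ θ.isOpenEmbedding.isOpen_range.isClosed_compl
  have hlv : l₀.left v' ∈ AV := hl₀A v' hv₀1
  have hΨl : Ψ.left (l₀.left v') = σ.left v' := congrArg (fun k : V' ⟶ pullback (hq.snd q) g' => k.left v') hl₀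
  have hv'bad : v' ∉ bad := by
    rintro ⟨p, hp, hpv⟩
    refine hp ⟨⟨_, hlv⟩, OD.ι.isOpenEmbedding.injective ?_⟩
    rw [← Scheme.Hom.comp_apply, hθ]
    show Ψ.left (l₀.left v') = p.1
    rw [hΨl, hσv]
    exact (hfib p.1 p.2 hpv).symm
  obtain ⟨V₂, hV₂, hv'V₂, hV₂le⟩ := exists_isAffineOpen_mem_and_subset (X := V'.left) (x := v')
    (U := σ.left ⁻¹ᵁ OD ⊓ ⟨badᶜ, hbad.isOpen_compl⟩) ⟨hv₀OD, hv'bad⟩
  let O₂ : O.left.Opens := ⟨πO.left '' V₂, πO.left.isOpenMap _ V₂.isOpen⟩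
  have hO₂₁ : O₂ ≤ O₁ := by
    rintro _ ⟨w, hw, rfl⟩
    exact (hO₁ w).2 (hV₂le hw).1
  -- finiteness over `O₂`
  let c₂ : V₂.toScheme ⟶ O₂.toScheme := IsOpenImmersion.lift O₂.ι (V₂.ι ≫ πO.left) (by
    rintro _ ⟨w, rfl⟩
    rw [Scheme.Opens.range_ι]
    exact ⟨w.1, w.2, rfl⟩)
  have hc₂ : c₂ ≫ O₂.ι = V₂.ι ≫ πO.left := IsOpenImmersion.lift_fac _ _ _
  have : Etale (c₂ ≫ O₂.ι) := by rw [hc₂]; infer_instance
  have : Etale c₂ := Etale.of_comp c₂ O₂.ι
  have : Surjective c₂ := ⟨fun y => by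
    obtain ⟨w, hw, hwy⟩ := y.2
    refine ⟨⟨w, hw⟩, O₂.ι.isOpenEmbedding.injective ?_⟩
    rw [← Scheme.Hom.comp_apply, hc₂]
    exact hwy⟩
  have : IsAffine V₂.toScheme := hV₂
  have : QuasiCompact c₂ := by
    have : IsSeparated (terminal.from O₂.toScheme) := by
      rw [show terminal.from O₂.toScheme = O₂.ι ≫ gO.left ≫ terminal.from V.left from terminal.hom_ext _ _]
      infer_instance
    have : IsAffineHom (c₂ ≫ terminal.from O₂.toScheme) := inferInstance
    have : IsAffineHom c₂ := MorphismProperty.of_postcomp @IsAffineHom c₂ (terminal.from _) ‹_› ‹_›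
    infer_instance
  let f := A₁.ι ≫ ks.left
  have sqf : IsPullback (lK.left ∣_ A₁) fA f πO.left :=
    (isPullback_morphismRestrict lK.left A₁).paste_vert sqAV
  have hfA : IsFinite (fA ∣_ V₂) ∧ Flat (fA ∣_ V₂) ∧ LocallyOfFinitePresentation (fA ∣_ V₂) := by
    obtain ⟨hπf, hπl⟩ := Part.flat_π D hqf hqp
    have : IsFinite πD := hODf
    have : Flat πD := hπf
    have : LocallyOfFinitePresentation πD := hπl
    have hiso : IsIso (θ ∣_ (πD ⁻¹ᵁ V₂)) := by
      refine isIso_of_isOpenImmersion_of_opensRange_eq_top _ ?_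
      refine TopologicalSpace.Opens.ext (Set.eq_univ_of_forall fun y => ?_)
      obtain ⟨x, hx⟩ : y.1 ∈ Set.range θ := by
        by_contra h
        exact (hV₂le y.2).2 ⟨y.1, h, rfl⟩
      refine ⟨⟨x, show θ x ∈ πD ⁻¹ᵁ V₂ by rw [hx]; exact y.2⟩, Subtype.ext ?_⟩
      exact (congrArg (fun k : (θ ⁻¹ᵁ (πD ⁻¹ᵁ V₂)).toScheme ⟶ OD.toScheme => k _)
        (morphismRestrict_ι θ (πD ⁻¹ᵁ V₂))).trans hx
    rw [← hθπ, morphismRestrict_comp]
    have : IsFinite (πD ∣_ V₂) := MorphismProperty.of_isPullback (P := @IsFinite) (isPullback_morphismRestrict πD V₂).flip ‹_›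
    have : LocallyOfFinitePresentation (πD ∣_ V₂) :=
      MorphismProperty.of_isPullback (P := @LocallyOfFinitePresentation) (isPullback_morphismRestrict πD V₂).flip ‹_›
    exact ⟨(@MorphismProperty.cancel_left_of_respectsIso _ _ @IsFinite inferInstance _ _ _ _ _ hiso).2 inferInstance,
      (@MorphismProperty.cancel_left_of_respectsIso _ _ @Flat inferInstance _ _ _ _ _ hiso).2 inferInstance,
      (@MorphismProperty.cancel_left_of_respectsIso _ _ @LocallyOfFinitePresentation inferInstance _ _ _ _ _ hiso).2 inferInstance⟩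
  have hf₂ : IsFinite (f ∣_ O₂) ∧ Flat (f ∣_ O₂) ∧ LocallyOfFinitePresentation (f ∣_ O₂) := by
    have s₁ := (isPullback_morphismRestrict fA V₂).flip.paste_horiz sqf
    let k : (fA ⁻¹ᵁ V₂).toScheme ⟶ (f ⁻¹ᵁ O₂).toScheme := IsOpenImmersion.lift (f ⁻¹ᵁ O₂).ι
      ((fA ⁻¹ᵁ V₂).ι ≫ (lK.left ∣_ A₁)) (by
        rintro _ ⟨w, rfl⟩
        rw [Scheme.Opens.range_ι]
        show f (((fA ⁻¹ᵁ V₂).ι ≫ (lK.left ∣_ A₁)) w) ∈ O₂
        rw [← Scheme.Hom.comp_apply, s₁.w, Scheme.Hom.comp_apply]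
        exact ⟨_, ((fA ∣_ V₂) w).2, rfl⟩)
    have hk : k ≫ (f ⁻¹ᵁ O₂).ι = (fA ⁻¹ᵁ V₂).ι ≫ (lK.left ∣_ A₁) := IsOpenImmersion.lift_fac _ _ _
    have s₂ : IsPullback k (fA ∣_ V₂) (f ∣_ O₂) c₂ := by
      refine IsPullback.of_right (h₁₂ := (f ⁻¹ᵁ O₂).ι) (h₂₂ := O₂.ι) (v₁₃ := f) ?_ ?_
        (isPullback_morphismRestrict f O₂).flip
      · rw [hk, hc₂]; exact s₁
      · rw [← cancel_mono O₂.ι, Category.assoc, morphismRestrict_ι, reassoc_of% hk, Category.assoc, hc₂]
        simpa using s₁.w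
    have hQ : (@Surjective ⊓ @Flat ⊓ @QuasiCompact : MorphismProperty Scheme.{u}) c₂ :=
      ⟨⟨inferInstance, inferInstance⟩, inferInstance⟩
    have := Et18.descends_isFinite.{u}
    have := descends_flat.{u}
    exact ⟨MorphismProperty.of_isPullback_of_descendsAlong (P := @IsFinite) s₂.flip hQ hfA.1,
      MorphismProperty.of_isPullback_of_descendsAlong (P := @Flat) s₂.flip hQ hfA.2.1,
      MorphismProperty.of_isPullback_of_descendsAlong (P := @LocallyOfFinitePresentation) s₂.flip hQ hfA.2.2⟩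
  -- the orbit of the distinguished point
  let x₁ : ↥O.left := πO.left v'
  have horbit : ∀ r : ↥K.left, r ∈ A₁ → ks.left r = x₁ → kt.left r = x₁ := by
    intro r hr₁ hr₂
    obtain ⟨w, hw₁, hw₂⟩ := Scheme.Pullback.exists_preimage_pullback (f := ks.left) (g := πO.left) r v' hr₂
    let z : ↥L.left := sqAV.isoPullback.inv w
    have hz₁ : lK.left z = r := by
      rw [← hw₁, ← Scheme.Hom.comp_apply, sqAV.isoPullback_inv_fst]
    have hz₂ : a.left z = v' := by
      rw [← hw₂, ← Scheme.Hom.comp_apply, sqAV.isoPullback_inv_snd]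
    have hzA : z ∈ AV := by show lK.left z ∈ A₁; rw [hz₁]; exact hr₁
    have e1 : Ψ.left z = σ.left v' := by
      rw [hσv]
      refine hfib _ (hrange z hzA) ?_
      rw [← hz₂]
      exact congrArg (fun k : L ⟶ V' => k.left z) hΨa
    have e2 : (⟨z, hzA⟩ : AV.toScheme) = ⟨_, hlv⟩ := hopen.base_open.injective (e1.trans hΨl.symm)
    rw [← hz₁, show z = l₀.left v' from congrArg Subtype.val e2]
    exact congrArg (fun k : V' ⟶ O => k.left v') hl₀t
  -- the saturated open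
  let bad₃ : Set ↥O₂.toScheme := (f ∣_ O₂) '' {w | kt.left (A₁.ι w.1) ∉ O₂}
  have hbad₃ : IsClosed bad₃ := by
    have := hf₂.1
    refine (f ∣_ O₂).isClosedMap _ ?_
    exact O₂.isOpen.isClosed_compl.preimage (kt.left.continuous.comp (A₁.ι.continuous.comp (f ⁻¹ᵁ O₂).ι.continuous))
  let O₃ : O.left.Opens := ⟨O₂.ι '' bad₃ᶜ, O₂.ι.isOpenEmbedding.isOpenMap _ hbad₃.isOpen_compl⟩
  have hO₃mem : ∀ y, y ∈ O₃ ↔ y ∈ O₂ ∧ ∀ r ∈ A₁, ks.left r = y → kt.left r ∈ O₂ := by
    intro y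
    constructor
    · rintro ⟨y', hy', rfl⟩
      refine ⟨y'.2, fun r hr₁ hry => by_contra fun hn' => hy' ?_⟩
      have hrf : f ⟨r, hr₁⟩ ∈ O₂ := by
        show ks.left r ∈ O₂
        rw [hry]; exact y'.2
      refine ⟨⟨⟨r, hr₁⟩, hrf⟩, hn', O₂.ι.isOpenEmbedding.injective ?_⟩
      rw [← Scheme.Hom.comp_apply, morphismRestrict_ι]
      exact hry
    · rintro ⟨hy, H⟩
      refine ⟨⟨y, hy⟩, ?_, rfl⟩
      rintro ⟨w, hw, hwy⟩
      refine hw (H _ w.1.2 ?_)
      have := congrArg O₂.ι hwy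
      rw [← Scheme.Hom.comp_apply, morphismRestrict_ι] at this
      exact this
  have hO₃₂ : O₃ ≤ O₂ := fun y hy => ((hO₃mem y).1 hy).1
  have hinv₃ : ∀ r ∈ A₁, ks.left r ∈ O₃ → kt.left r ∈ O₃ := by
    intro r hr₁ hr₃
    obtain ⟨hr₂, H⟩ := (hO₃mem _).1 hr₃
    refine (hO₃mem _).2 ⟨H r hr₁ rfl, fun r' hr'₁ hr' => ?_⟩
    let RA : Over S := Over.mk (A.ι ≫ K.hom)
    let jA : RA ⟶ K := Over.homMk A.ι
    obtain ⟨w, hw₁, hw₂⟩ := exists_point_pullback (jA ≫ ks) (jA ≫ kt) (⟨r', hr'₁.1⟩ : RA.left) (⟨r, hr₁.1⟩ : RA.left)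
      (show ks.left r' = kt.left r from hr')
    let T := pullback (jA ≫ ks) (jA ≫ kt)
    let p₁ : T ⟶ RA := pullback.fst _ _
    let p₂ : T ⟶ RA := pullback.snd _ _
    obtain ⟨r'', h₁, h₂⟩ := (hEqv.equivalence T).trans (x := p₁ ≫ jA ≫ kt) (y := p₁ ≫ jA ≫ ks)
      (z := p₂ ≫ jA ≫ ks) ⟨p₁, rfl, rfl⟩ ⟨p₂, pullback.condition.symm, rfl⟩
    have e₁ : kt.left (r''.left w).1 = kt.left r' :=
      (congrArg (fun k : T ⟶ O => k.left w) h₁).trans (congrArg (fun z : RA.left => kt.left z.1) hw₁)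
    have e₂ : ks.left (r''.left w).1 = ks.left r :=
      (congrArg (fun k : T ⟶ O => k.left w) h₂).trans (congrArg (fun z : RA.left => ks.left z.1) hw₂)
    rw [← e₁]
    exact H _ ⟨(r''.left w).2, show kt.left (r''.left w).1 ∈ O₁ by rw [e₁]; exact hr'₁.2⟩ e₂
  have hx₁ : x₁ ∈ O₃ := (hO₃mem _).2 ⟨⟨v', hv'V₂, rfl⟩, fun r hr₁ hr₂ => by
    rw [horbit r hr₁ hr₂]; exact ⟨v', hv'V₂, rfl⟩⟩
  -- the restricted groupoid
  have hfin : ∀ (N : O.left.Opens), N ≤ O₂ → (∀ r ∈ A₁, ks.left r ∈ N → kt.left r ∈ N) →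
      ∀ (sN : relRestrict ks kt A N ⟶ Over.mk (N.ι ≫ O.hom)),
        sN ≫ (Over.homMk N.ι : Over.mk (N.ι ≫ O.hom) ⟶ O) = relι ks kt A N ≫ ks →
        IsFinite sN.left ∧ Flat sN.left ∧ LocallyOfFinitePresentation sN.left := by
    intro N hN hNinv sN hsN
    let j : (relRestrict ks kt A N).left ⟶ A₁.toScheme := IsOpenImmersion.lift A₁.ι (relι ks kt A N).left (by
      rintro _ ⟨w, rfl⟩
      rw [Scheme.Opens.range_ι]
      exact ⟨w.2.1.1, hO₂₁ (hN w.2.2)⟩)
    have hj : j ≫ A₁.ι = (relι ks kt A N).left := IsOpenImmersion.lift_fac _ _ _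
    have : IsOpenImmersion (relι ks kt A N).left := inferInstanceAs (IsOpenImmersion (Scheme.Opens.ι _))
    have : IsOpenImmersion (j ≫ A₁.ι) := by rw [hj]; infer_instance
    have : IsOpenImmersion j := IsOpenImmersion.of_comp j A₁.ι
    have hjN : Set.range j = f ⁻¹' N := by
      ext w
      constructor
      · rintro ⟨y, rfl⟩
        show (j ≫ A₁.ι ≫ ks.left) y ∈ N
        rw [← Category.assoc, hj]
        exact y.2.1.2
      · intro hw
        refine ⟨⟨w.1, ⟨⟨w.2.1, hw⟩, hNinv _ w.2 hw⟩⟩, A₁.ι.isOpenEmbedding.injective ?_⟩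
        rw [← Scheme.Hom.comp_apply, hj]
        rfl
    have hs' : sN.left ≫ N.ι = j ≫ f := by
      simp only [f, reassoc_of% hj]
      exact congrArg (fun k => k.left) hsN
    have h₀ := hf₂
    exact ⟨of_range_restrict @IsFinite f N (morphismRestrict_of_le @IsFinite f hN h₀.1) j hjN _ hs',
      of_range_restrict @Flat f N (morphismRestrict_of_le @Flat f hN h₀.2.1) j hjN _ hs',
      of_range_restrict @LocallyOfFinitePresentation f N
        (morphismRestrict_of_le @LocallyOfFinitePresentation f hN h₀.2.2) j hjN _ hs'⟩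
  obtain ⟨s₃, t₃, hs₃, ht₃⟩ := exists_relEnd ks kt A O₃
  have hR₃ := isEqvRel_restrict ks kt A O₃ hEqv hs₃ ht₃
  obtain ⟨h3a, h3b, h3c⟩ := hfin O₃ hO₃₂ hinv₃ s₃ hs₃
  let G := grpd hR₃
  have : IsFinite G.s := h3a
  have : Flat G.s := h3b
  have : LocallyOfFinitePresentation G.s := h3c
  have hst : ∀ r : (relRestrict ks kt A O₃).left,
      O₃.ι (s₃.left r) = ks.left r.1 ∧ O₃.ι (t₃.left r) = kt.left r.1 := fun r =>
    ⟨congrArg (fun k : relRestrict ks kt A O₃ ⟶ O => k.left r) hs₃,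
      congrArg (fun k : relRestrict ks kt A O₃ ⟶ O => k.left r) ht₃⟩
  let u₃ : G.U := (⟨x₁, hx₁⟩ : O₃.toScheme)
  obtain ⟨Va, hVa, huVa, -⟩ := exists_isAffineOpen_mem_and_subset (X := G.U) (x := u₃) (U := ⊤) trivial
  obtain ⟨W₀, hW₀, hu₀, -, hW₀inv⟩ := GrpdLib.exists_invariant_affine G u₃ Va hVa fun r hr' => by
    have : G.t r = u₃ := by
      apply O₃.ι.isOpenEmbedding.injective
      show O₃.ι (t₃.left r) = x₁
      rw [(hst r).2]
      refine horbit _ ⟨r.2.1.1, hO₂₁ (hO₃₂ r.2.2)⟩ ?_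
      rw [← (hst r).1]
      exact congrArg O₃.ι hr'
    rw [this]; exact huVa
  -- the affine piece
  let W₀' : O₃.toScheme.Opens := W₀
  have hW₀' : IsAffineOpen W₀' := hW₀
  let N : O.left.Opens := O₃.ι ''ᵁ W₀'
  have hN₃ : N ≤ O₃ := fun y hy => by
    obtain ⟨w, -, rfl⟩ := hy
    exact w.2
  have hNa : IsAffineOpen N := hW₀'.image_of_isOpenImmersion O₃.ι
  have hNinv : ∀ r ∈ A₁, ks.left r ∈ N → kt.left r ∈ N := by
    intro r hr₁ hrN
    have h₃ : ks.left r ∈ O₃ := hN₃ hrN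
    let r₃ : (relRestrict ks kt A O₃).left := ⟨r, ⟨⟨hr₁.1, h₃⟩, hinv₃ r hr₁ h₃⟩⟩
    obtain ⟨w, hw, hwr⟩ := hrN
    have : G.s r₃ = w := O₃.ι.isOpenEmbedding.injective ((hst r₃).1.trans hwr.symm)
    have h' : r₃ ∈ G.s ⁻¹ᵁ W₀ := by show G.s r₃ ∈ W₀; rw [this]; exact hw
    rw [hW₀inv] at h'
    exact ⟨_, h', (hst r₃).2⟩
  obtain ⟨sW, tW, hsW, htW⟩ := exists_relEnd ks kt A N
  have hRW := isEqvRel_restrict ks kt A N hEqv hsW htW
  obtain ⟨hWa, hWb, hWc⟩ := hfin N (hN₃.trans hO₃₂) hNinv sW hsW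
  let W : Over S := Over.mk (N.ι ≫ O.hom)
  let iW : W ⟶ O := Over.homMk N.ι
  let RW := relRestrict ks kt A N
  have : IsAffine W.left := hNa
  have : IsAffine RW.left := isAffine_of_isAffineHom sW.left
  let qW := (yon S).map iW ≫ qO
  have : IsOpenImmersion iW.left := inferInstanceAs (IsOpenImmersion N.ι)
  have hiW : RepWith @IsOpenImmersion ((yon S).map iW) := (repWith_yon_map_iff _ iW).2 ‹_›
  have hgOR : RepWith @Etale ((yon S).map gO) := (repWith_yon_map_iff _ gO).2 hgOE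
  have hqWf : RepWith @Flat qW := RepWith.comp (RepWith.mono (fun _ _ k (_ : IsOpenImmersion k) =>
    (inferInstance : Flat k)) hiW) (RepWith.comp (RepWith.mono etale_le_flat hgOR) hqf)
  have hqWp : RepWith @LocallyOfFinitePresentation qW := RepWith.comp (RepWith.mono (fun _ _ k (_ : IsOpenImmersion k) =>
    (inferInstance : LocallyOfFinitePresentation k)) hiW) (RepWith.comp (RepWith.mono etale_le_lfp hgOR) hqp)
  have sqK := hr.isPullback' qO
  have w : (yon S).map tW ≫ qW = (yon S).map sW ≫ qW := by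
    simp only [qW, ← Category.assoc, ← Functor.map_comp]
    rw [show tW ≫ iW = relι ks kt A N ≫ kt from htW, show sW ≫ iW = relι ks kt A N ≫ ks from hsW]
    simp only [Functor.map_comp, Category.assoc]
    rw [show (yon S).map kt ≫ qO = (yon S).map ks ≫ qO from sqK.w]
  let k' : pullback qW qW ⟶ pullback qO qO :=
    pullback.map qW qW qO qO ((yon S).map iW) ((yon S).map iW) (𝟙 _) (by rw [Category.comp_id]) (by rw [Category.comp_id])
  have hk'₁ : k' ≫ pullback.fst qO qO = pullback.fst qW qW ≫ (yon S).map iW := pullback.lift_fst _ _ _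
  have hk'₂ : k' ≫ pullback.snd qO qO = pullback.snd qW qW ≫ (yon S).map iW := pullback.lift_snd _ _ _
  have : Mono ((yon S).map iW) := mono_of_repWith (fun _ _ k (_ : IsOpenImmersion k) => (inferInstance : Mono k)) hiW
  have : Mono k' := ⟨fun x y e => pullback.hom_ext
    ((cancel_mono ((yon S).map iW)).1 (by rw [Category.assoc, Category.assoc, ← hk'₁, reassoc_of% e]))
    ((cancel_mono ((yon S).map iW)).1 (by rw [Category.assoc, Category.assoc, ← hk'₂, reassoc_of% e]))⟩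
  have hj : RepWith @IsOpenImmersion (pullback.lift ((yon S).map tW) ((yon S).map sW) w) := by
    refine repWith_of_comp_mono _ k' ?_
    rw [show pullback.lift ((yon S).map tW) ((yon S).map sW) w ≫ k' =
        (yon S).map (relι ks kt A N) ≫ sqK.isoPullback.hom by
      apply pullback.hom_ext
      · rw [Category.assoc, Category.assoc, hk'₁, pullback.lift_fst_assoc, sqK.isoPullback_hom_fst,
          ← Functor.map_comp, ← Functor.map_comp]
        exact congrArg _ htW
      · rw [Category.assoc, Category.assoc, hk'₂, pullback.lift_snd_assoc, sqK.isoPullback_hom_snd,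
          ← Functor.map_comp, ← Functor.map_comp]
        exact congrArg _ hsW]
    exact RepWith.comp ((repWith_yon_map_iff _ _).2 (inferInstanceAs (IsOpenImmersion (Scheme.Opens.ι _))))
      (repWith_of_isIso _ _)
  obtain ⟨M, m, π, hm, hπm⟩ := exists_etale_of_finite_rel hd hRW qW hqWf hqWp w hj
  have hxN : x₁ ∈ N := ⟨u₃, hu₀, rfl⟩
  refine ⟨M, W, m, π, iW ≫ gO, (⟨x₁, hxN⟩ : N.toScheme), hm, ?_, ?_⟩
  · rw [hπm, Functor.map_comp, Category.assoc]
  · show gO.left x₁ = u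
    rw [← hgu]
    exact congrArg (fun k : V' ⟶ V => k.left v') hg

end Groth.Agent.Stk19b.Fppf
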