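import Groth.Agent.Stk19b.Fppf.Basic
import Groth.Agent.Stk19b.Fppf.Slice

/-!
# Finite parts of a quasi-finite chart and the relation "same part"
-/

set_option autoImplicit false
set_option linter.style.haveILetI false
set_option backward.isDefEq.respectTransparency.types false

universe u

open CategoryTheory CategoryTheory.Limits AlgebraicGeometry
open AlgSp

noncomputable section

namespace Groth.Agent.Stk19b.Fppf

open Groth.Agent.AlgSpLib

variable {S : Scheme.{u}}

theorem exists_point_pullback {X Y Z : Over S} (f : X ⟶ Z) (g : Y ⟶ Z) (x : ↥X.left) (y : ↥Y.left)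
    (h : f.left x = g.left y) :
    ∃ z : ↥(pullback f g).left, (pullback.fst f g).left z = x ∧ (pullback.snd f g).left z = y := by
  have sq := (IsPullback.of_hasPullback f g).map (Over.forget S)
  obtain ⟨t, ht₁, ht₂⟩ := Scheme.Pullback.exists_preimage_pullback (f := f.left) (g := g.left) x y h
  refine ⟨sq.isoPullback.inv t, ?_, ?_⟩
  · rw [← ht₁]
    exact congrArg (fun k : pullback f.left g.left ⟶ X.left => k t) sq.isoPullback_inv_fst
  · rw [← ht₂]
    exact congrArg (fun k : pullback f.left g.left ⟶ Y.left => k t) sq.isoPullback_inv_snd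

theorem exists_lift_opens {T W : Over S} (f : T ⟶ W) (O : W.left.Opens) (h : ∀ x, f.left x ∈ O) :
    ∃ l : T ⟶ Over.mk (O.ι ≫ W.hom), l ≫ (Over.homMk O.ι : Over.mk (O.ι ≫ W.hom) ⟶ W) = f := by
  refine ⟨Over.homMk (IsOpenImmersion.lift O.ι f.left (by rintro _ ⟨x, rfl⟩; simpa using h x)) ?_,
    Over.OverMorphism.ext (IsOpenImmersion.lift_fac _ _ _)⟩
  show _ ≫ O.ι ≫ W.hom = T.hom
  rw [IsOpenImmersion.lift_fac_assoc, Over.w]

variable {F : Sp S} {V : Over S} {q : (yon S).obj V ⟶ F}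

/-- A finite flat clopen part of the base change of the chart to an etale neighbourhood. -/
structure Part (hq : Representable q) where
  V' : Over S
  g : V' ⟶ V
  etale : Etale g.left
  O : (pullback (hq.snd q) g).left.Opens
  isClosed : IsClosed (O : Set ↥(pullback (hq.snd q) g).left)
  finite : IsFinite (O.ι ≫ (pullback.snd (hq.snd q) g).left)

variable {hq : Representable q} (D : Part hq)

namespace Part

/-- The part as a scheme over the base. -/
def P : Over S := Over.mk (D.O.ι ≫ (pullback (hq.snd q) D.g).hom)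

/-- The inclusion. -/
def ι : D.P ⟶ pullback (hq.snd q) D.g := Over.homMk D.O.ι

/-- The projection to the neighbourhood. -/
def π : D.P ⟶ D.V' := D.ι ≫ pullback.snd _ _

/-- The projection to the chart. -/
def τ : D.P ⟶ V := D.ι ≫ pullback.fst _ _ ≫ hq.fst' q

/-- `y` lies in the part of `a`. -/
def Mem {T : Over S} (a : T ⟶ D.V') (y : T ⟶ V) : Prop := ∃ l : T ⟶ D.P, l ≫ D.π = a ∧ l ≫ D.τ = y

/-- `a` and `b` have the same part. -/
def Same {T : Over S} (a b : T ⟶ D.V') : Prop :=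
  (yon S).map (a ≫ D.g) ≫ q = (yon S).map (b ≫ D.g) ≫ q ∧
    ∀ ⦃T' : Over S⦄ (h : T' ⟶ T) (y : T' ⟶ V), D.Mem (h ≫ a) y ↔ D.Mem (h ≫ b) y

theorem hom_ext {T : Over S} {l₁ l₂ : T ⟶ D.P} (h₁ : l₁ ≫ D.π = l₂ ≫ D.π) (h₂ : l₁ ≫ D.τ = l₂ ≫ D.τ) :
    l₁ = l₂ := by
  have : Mono D.ι := (Over.forget S).mono_of_mono_map (inferInstanceAs (Mono D.O.ι))
  rw [← cancel_mono D.ι]
  apply pullback.hom_ext
  · apply (yon S).map_injective
    refine (hq.isPullback' q).hom_ext ?_ ?_
    · simp only [← Functor.map_comp]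
      exact congrArg _ (by simpa [τ] using h₂)
    · simp only [← Functor.map_comp]
      refine congrArg _ ?_
      simp only [Category.assoc, pullback.condition]
      have := congrArg (· ≫ D.g) h₁
      simpa [π] using this
  · simpa [π] using h₁

theorem Mem.eq_F {T : Over S} {a : T ⟶ D.V'} {y : T ⟶ V} (h : D.Mem a y) :
    (yon S).map (a ≫ D.g) ≫ q = (yon S).map y ≫ q := by
  obtain ⟨l, rfl, rfl⟩ := h
  simp only [π, τ, Category.assoc, ← pullback.condition, Functor.map_comp]
  rw [← (hq.isPullback' q).w]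

theorem Mem.comp {T T' : Over S} {a : T ⟶ D.V'} {y : T ⟶ V} (h : D.Mem a y) (k : T' ⟶ T) :
    D.Mem (k ≫ a) (k ≫ y) := by
  obtain ⟨l, rfl, rfl⟩ := h
  exact ⟨k ≫ l, Category.assoc _ _ _, Category.assoc _ _ _⟩

theorem same_refl {T : Over S} (a : T ⟶ D.V') : D.Same a a := ⟨rfl, fun _ _ _ => Iff.rfl⟩

theorem Same.symm {T : Over S} {a b : T ⟶ D.V'} (h : D.Same a b) : D.Same b a :=
  ⟨h.1.symm, fun _ k y => (h.2 k y).symm⟩

theorem Same.trans {T : Over S} {a b c : T ⟶ D.V'} (h : D.Same a b) (h' : D.Same b c) : D.Same a c :=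
  ⟨h.1.trans h'.1, fun _ k y => (h.2 k y).trans (h'.2 k y)⟩

theorem Same.comp {T T' : Over S} {a b : T ⟶ D.V'} (h : D.Same a b) (k : T' ⟶ T) : D.Same (k ≫ a) (k ≫ b) :=
  ⟨by simp only [Category.assoc, Functor.map_comp]; simpa using congrArg ((yon S).map k ≫ ·) h.1,
    fun _ l y => by simpa using h.2 (l ≫ k) y⟩

theorem Same.mem_iff {T : Over S} {a b : T ⟶ D.V'} (h : D.Same a b) (y : T ⟶ V) : D.Mem a y ↔ D.Mem b y := by
  simpa using h.2 (𝟙 T) y

variable (hqf : RepWith @Flat q) (hqp : RepWith @LocallyOfFinitePresentation q)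

include hqf hqp

theorem flat_π : Flat D.π.left ∧ LocallyOfFinitePresentation D.π.left := by
  have : Flat (hq.snd q).left := hqf.property _ _ _ (hq.isPullback' q)
  have : LocallyOfFinitePresentation (hq.snd q).left := hqp.property _ _ _ (hq.isPullback' q)
  have sq := (IsPullback.of_hasPullback (hq.snd q) D.g).map (Over.forget S)
  have : Flat (pullback.snd (hq.snd q) D.g).left := MorphismProperty.of_isPullback (P := @Flat) sq ‹_›
  have : LocallyOfFinitePresentation (pullback.snd (hq.snd q) D.g).left :=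
    MorphismProperty.of_isPullback (P := @LocallyOfFinitePresentation) sq ‹_›
  exact ⟨inferInstanceAs (Flat (D.O.ι ≫ (pullback.snd (hq.snd q) D.g).left)),
    inferInstanceAs (LocallyOfFinitePresentation (D.O.ι ≫ (pullback.snd (hq.snd q) D.g).left))⟩

omit hqf hqp in
/-- the part of a point as a clopen of the base change of the chart -/
theorem exists_part_at {T : Over S} (a : T ⟶ D.V') (p : (yon S).obj T ⟶ F)
    (hp : (yon S).map (a ≫ D.g) ≫ q = p) :
    ∃ m : hq.pullback p ⟶ pullback (hq.snd q) D.g,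
      IsPullback m.left (hq.snd p).left (pullback.snd (hq.snd q) D.g).left a.left ∧
      ∀ ⦃T' : Over S⦄ (h : T' ⟶ T) (y : T' ⟶ V) (l : T' ⟶ hq.pullback p),
        l ≫ hq.snd p = h → l ≫ hq.fst' p = y → (D.Mem (h ≫ a) y ↔ ∀ x, (l ≫ m).left x ∈ D.O) := by
  have sqE := hq.isPullback' p
  have sqR := hq.isPullback' q
  have w₁ : (yon S).map (hq.fst' p) ≫ q = (yon S).map (hq.snd p ≫ a ≫ D.g) ≫ q := by
    rw [sqE.w, ← hp]; simp only [Functor.map_comp, Category.assoc]
  obtain ⟨r, hr⟩ := (yon S).map_surjective (sqR.lift _ _ w₁)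
  have hr₁ : r ≫ hq.fst' q = hq.fst' p := (yon S).map_injective (by rw [Functor.map_comp, hr, sqR.lift_fst])
  have hr₂ : r ≫ hq.snd q = hq.snd p ≫ a ≫ D.g := (yon S).map_injective (by rw [Functor.map_comp, hr, sqR.lift_snd])
  let m := pullback.lift (f := hq.snd q) (g := D.g) r (hq.snd p ≫ a) (by rw [hr₂, Category.assoc])
  have hm₁ : m ≫ pullback.fst _ _ = r := pullback.lift_fst _ _ _
  have hm₂ : m ≫ pullback.snd _ _ = hq.snd p ≫ a := pullback.lift_snd _ _ _
  refine ⟨m, isPullback_left ?_, fun T' h y l hl₁ hl₂ => ?_⟩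
  · have sqP := (IsPullback.of_hasPullback (hq.snd q) D.g).map (yon S)
    refine (IsPullback.of_right (h₁₂ := (yon S).map (pullback.fst _ _) ≫ (yon S).map (hq.fst' q))
      (h₂₂ := (yon S).map D.g ≫ q) (v₁₃ := q) ?_ ?_ (sqP.paste_horiz sqR))
    · rw [← Functor.map_comp, ← Functor.map_comp, ← Category.assoc, hm₁, hr₁, ← Category.assoc,
        ← Functor.map_comp, hp]
      exact sqE
    · rw [← Functor.map_comp, hm₂, Functor.map_comp]
  · constructor
    · rintro ⟨k, hk₁, hk₂⟩ x
      have e : k ≫ D.ι = l ≫ m := by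
        apply pullback.hom_ext
        · rw [Category.assoc, Category.assoc, hm₁]
          apply (yon S).map_injective
          refine sqR.hom_ext ?_ ?_
          · simp only [← Functor.map_comp, Category.assoc]
            rw [hr₁, hl₂, ← hk₂]; rfl
          · simp only [← Functor.map_comp, Category.assoc]
            rw [pullback.condition, hr₂, reassoc_of% hl₁, ← reassoc_of% hk₁]; rfl
        · rw [Category.assoc, Category.assoc, hm₂, reassoc_of% hl₁]
          exact hk₁
      rw [← e]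
      show D.O.ι (k.left x) ∈ D.O
      exact (k.left x).2
    · intro hx
      obtain ⟨k, hk⟩ := exists_lift_opens (l ≫ m) D.O hx
      refine ⟨k, ?_, ?_⟩
      · show k ≫ D.ι ≫ _ = _
        rw [← Category.assoc, show k ≫ D.ι = l ≫ m from hk, Category.assoc, hm₂, reassoc_of% hl₁]
      · show k ≫ D.ι ≫ _ = _
        rw [← Category.assoc, show k ≫ D.ι = l ≫ m from hk, Category.assoc, reassoc_of% hm₁, hr₁, hl₂]

/-- the locus where two points have the same part -/
theorem exists_same_locus {T : Over S} (a b : T ⟶ D.V')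
    (hF : (yon S).map (a ≫ D.g) ≫ q = (yon S).map (b ≫ D.g) ≫ q) :
    ∃ G : T.left.Opens, IsClosed (G : Set ↥T.left) ∧
      ∀ ⦃T' : Over S⦄ (h : T' ⟶ T), D.Same (h ≫ a) (h ≫ b) ↔ ∀ x, h.left x ∈ G := by
  let p := (yon S).map (a ≫ D.g) ≫ q
  obtain ⟨ma, sqa, hA⟩ := exists_part_at D a p rfl
  obtain ⟨mb, sqb, hB⟩ := exists_part_at D b p hF.symm
  have sqE := hq.isPullback' p
  let E := hq.pullback p
  let ex := (hq.snd p).left
  let A : E.left.Opens := ma.left ⁻¹ᵁ D.O
  let B : E.left.Opens := mb.left ⁻¹ᵁ D.O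
  obtain ⟨hπf, hπl⟩ := flat_π D hqf hqp
  have key : ∀ (c : T ⟶ D.V') (m : E ⟶ pullback (hq.snd q) D.g),
      IsPullback m.left ex (pullback.snd (hq.snd q) D.g).left c.left → ∀ (C : E.left.Opens),
      IsClosed (C : Set ↥E.left) →
      IsClopen (ex '' ((m.left ⁻¹ᵁ D.O : E.left.Opens) ∩ (C : Set ↥E.left)ᶜ)) := by
    intro c m sq C hC
    have sq' := (isPullback_morphismRestrict m.left D.O).paste_vert sq
    have h₁ : IsFinite ((m.left ⁻¹ᵁ D.O).ι ≫ ex) := MorphismProperty.of_isPullback (P := @IsFinite) sq' D.finite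
    have h₂ : Flat ((m.left ⁻¹ᵁ D.O).ι ≫ ex) := MorphismProperty.of_isPullback (P := @Flat) sq' hπf
    have h₃ : LocallyOfFinitePresentation ((m.left ⁻¹ᵁ D.O).ι ≫ ex) :=
      MorphismProperty.of_isPullback (P := @LocallyOfFinitePresentation) sq' hπl
    have e : ex '' ((m.left ⁻¹ᵁ D.O : E.left.Opens) ∩ (C : Set ↥E.left)ᶜ) =
        ((m.left ⁻¹ᵁ D.O).ι ≫ ex) '' ((m.left ⁻¹ᵁ D.O).ι ⁻¹' (C : Set ↥E.left)ᶜ) := by
      ext x
      constructor
      · rintro ⟨z, ⟨hz, hzC⟩, rfl⟩
        exact ⟨⟨z, hz⟩, hzC, rfl⟩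
      · rintro ⟨z, hz, rfl⟩
        exact ⟨_, ⟨z.2, hz⟩, rfl⟩
    rw [e]
    exact ⟨((m.left ⁻¹ᵁ D.O).ι ≫ ex).isClosedMap _
        (C.isOpen.isClosed_compl.preimage (m.left ⁻¹ᵁ D.O).ι.continuous),
      ((m.left ⁻¹ᵁ D.O).ι ≫ ex).isOpenMap _
        (hC.isOpen_compl.preimage (m.left ⁻¹ᵁ D.O).ι.continuous)⟩
  have hbad : IsClopen (ex '' ((A : Set ↥E.left) ∩ (B : Set ↥E.left)ᶜ) ∪ ex '' ((B : Set ↥E.left) ∩ (A : Set ↥E.left)ᶜ)) :=
    (key a ma sqa B (D.isClosed.preimage mb.left.continuous)).union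
      (key b mb sqb A (D.isClosed.preimage ma.left.continuous))
  refine ⟨⟨_, hbad.1.isOpen_compl⟩, hbad.2.isClosed_compl, fun T' h => ⟨fun hs x hx => ?_, fun hx => ?_⟩⟩
  · have main : ∀ (c d : T ⟶ D.V') (mc md : E ⟶ pullback (hq.snd q) D.g),
        (∀ ⦃T' : Over S⦄ (h : T' ⟶ T) (y : T' ⟶ V) (l : T' ⟶ E),
          l ≫ hq.snd p = h → l ≫ hq.fst' p = y → (D.Mem (h ≫ c) y ↔ ∀ x, (l ≫ mc).left x ∈ D.O)) →
        (∀ ⦃T' : Over S⦄ (h : T' ⟶ T) (y : T' ⟶ V) (l : T' ⟶ E),
          l ≫ hq.snd p = h → l ≫ hq.fst' p = y → (D.Mem (h ≫ d) y ↔ ∀ x, (l ≫ md).left x ∈ D.O)) →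
        D.Same (h ≫ c) (h ≫ d) →
        h.left x ∉ ex '' ((mc.left ⁻¹ᵁ D.O : E.left.Opens) ∩ ((md.left ⁻¹ᵁ D.O : E.left.Opens) : Set ↥E.left)ᶜ) := by
      rintro c d mc md hC hD hs ⟨z, ⟨hzA, hzB⟩, hzx⟩
      obtain ⟨z', hz₁, hz₂⟩ := exists_point_pullback (hq.snd p) h z x hzx
      let O' := ((pullback.fst (hq.snd p) h).left ≫ mc.left) ⁻¹ᵁ D.O
      let T'' : Over S := Over.mk (O'.ι ≫ (pullback (hq.snd p) h).hom)
      let j : T'' ⟶ pullback (hq.snd p) h := Over.homMk O'.ι
      let l : T'' ⟶ E := j ≫ pullback.fst _ _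
      have hl : l ≫ hq.snd p = j ≫ pullback.snd _ _ ≫ h := by
        rw [Category.assoc, pullback.condition]
      have h1 : D.Mem ((j ≫ pullback.snd _ _ ≫ h) ≫ c) (l ≫ hq.fst' p) :=
        (hC _ _ l hl rfl).2 fun w => w.2
      simp only [Category.assoc] at h1
      rw [← Category.assoc j, hs.2, Category.assoc] at h1
      have h2 := (hD (j ≫ pullback.snd _ _ ≫ h) (l ≫ hq.fst' p) l hl rfl).1
        (by simpa only [Category.assoc] using h1) ⟨z', by
          show mc.left ((pullback.fst (hq.snd p) h).left z') ∈ D.O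
          rw [hz₁]; exact hzA⟩
      refine hzB ?_
      show md.left z ∈ D.O
      rw [← hz₁]
      exact h2
    rcases hx with hx | hx
    · exact main a b ma mb hA hB hs hx
    · exact main b a mb ma hB hA hs.symm hx
  · refine ⟨?_, fun T'' k y => ?_⟩
    · simp only [Category.assoc, Functor.map_comp]
      simpa using congrArg ((yon S).map h ≫ ·) hF
    · by_cases hy : (yon S).map y ≫ q = (yon S).map (k ≫ h) ≫ p
      · obtain ⟨l, hl⟩ := (yon S).map_surjective (sqE.lift _ _ hy)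
        have hl₁ : l ≫ hq.fst' p = y := (yon S).map_injective (by rw [Functor.map_comp, hl, sqE.lift_fst])
        have hl₂ : l ≫ hq.snd p = k ≫ h := (yon S).map_injective (by rw [Functor.map_comp, hl, sqE.lift_snd])
        rw [← Category.assoc, ← Category.assoc, hA _ _ l hl₂ hl₁, hB _ _ l hl₂ hl₁]
        refine forall_congr' fun z => ?_
        have hgood := hx (k.left z)
        have hzx : ex (l.left z) = h.left (k.left z) :=
          congrArg (fun f : T'' ⟶ T => f.left z) hl₂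
        constructor
        · intro hz
          by_contra hzn
          exact hgood (Or.inl ⟨l.left z, ⟨hz, hzn⟩, hzx⟩)
        · intro hz
          by_contra hzn
          exact hgood (Or.inr ⟨l.left z, ⟨hz, hzn⟩, hzx⟩)
      · constructor
        · intro hm
          refine absurd ?_ hy
          rw [← Mem.eq_F D hm]
          simp only [p, Category.assoc, Functor.map_comp]
        · intro hm
          refine absurd ?_ hy
          rw [← Mem.eq_F D hm]
          simp only [p, Category.assoc, Functor.map_comp]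
          have := congrArg ((yon S).map k ≫ (yon S).map h ≫ ·) hF
          simp only [Functor.map_comp, Category.assoc] at this
          exact this.symm

/-- having the same part descends along surjective maps -/
theorem same_of_surjective {T T' : Over S} (a b : T ⟶ D.V')
    (hF : (yon S).map (a ≫ D.g) ≫ q = (yon S).map (b ≫ D.g) ≫ q) (c : T' ⟶ T) [Surjective c.left]
    (h : D.Same (c ≫ a) (c ≫ b)) : D.Same a b := by
  obtain ⟨G, -, hG⟩ := exists_same_locus D hqf hqp a b hF
  have := (hG (𝟙 T)).2 fun x => by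
    obtain ⟨x', rfl⟩ := c.left.surjective x
    exact (hG c).1 h x'
  simpa using this

end Part

end Groth.Agent.Stk19b.Fppf
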