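import Groth.Agent.Stk19b.Fppf.PartRel

/-!
# The arrows out of a point of the neighbourhood form an open piece of the part
-/

set_option autoImplicit false
set_option linter.style.haveILetI false
set_option backward.isDefEq.respectTransparency.types false

universe u

open CategoryTheory CategoryTheory.Limits AlgebraicGeometry
open AlgSp

noncomputable section

namespace Groth.Agent.Stk19b.Fppf

open Groth.Agent.AlgSpLib

variable {S : Scheme.{u}} {F : Sp S} {V : Over S} {q : (yon S).obj V ⟶ F}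

set_option maxHeartbeats 800000 in
theorem exists_open_piece {hq : Representable q} (D : Part hq) {O : Over S} (gO : O ⟶ V) (πO : D.V' ⟶ O)
    [Etale πO.left] [Surjective πO.left] [Etale gO.left] (hg : πO ≫ gO = D.g)
    (hO : ∀ ⦃T : Over S⦄ (a b : T ⟶ D.V'), a ≫ πO = b ≫ πO ↔ (a ≫ D.g = b ≫ D.g ∧ D.Same a b))
    (qO : (yon S).obj O ⟶ F) (hqO : qO = (yon S).map gO ≫ q) (hr : Representable qO)
    (A : (hr.pullback qO).left.Opens)
    (hA : ∀ ⦃T : Over S⦄ (l : T ⟶ hr.pullback qO) (a b : T ⟶ D.V'), a ≫ πO = l ≫ hr.fst' qO →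
      b ≫ πO = l ≫ hr.snd qO → ((∀ x, l.left x ∈ A) ↔ D.Same a b))
    (e₀ : V ⟶ hq.pullback q) (he₁ : e₀ ≫ hq.fst' q = 𝟙 V) (he₂ : e₀ ≫ hq.snd q = 𝟙 V) :
    ∃ (L : Over S) (lK : L ⟶ hr.pullback qO) (a : L ⟶ D.V') (Ψ : L ⟶ pullback (hq.snd q) D.g)
      (O₁ : O.left.Opens) (σ : D.V' ⟶ pullback (hq.snd q) D.g) (l₀ : D.V' ⟶ L),
      IsPullback lK.left a.left (hr.snd qO).left πO.left ∧
      (∀ v, πO.left v ∈ O₁ ↔ σ.left v ∈ D.O) ∧
      σ ≫ pullback.fst _ _ = D.g ≫ e₀ ∧ σ ≫ pullback.snd _ _ = 𝟙 _ ∧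
      Ψ ≫ pullback.snd _ _ = a ∧
      IsOpenImmersion ((lK.left ⁻¹ᵁ (A ⊓ (hr.fst' qO).left ⁻¹ᵁ O₁)).ι ≫ Ψ.left) ∧
      (∀ z, z ∈ lK.left ⁻¹ᵁ (A ⊓ (hr.fst' qO).left ⁻¹ᵁ O₁) → Ψ.left z ∈ D.O) ∧
      l₀ ≫ Ψ = σ ∧ (∀ v, πO.left v ∈ O₁ → l₀.left v ∈ lK.left ⁻¹ᵁ (A ⊓ (hr.fst' qO).left ⁻¹ᵁ O₁)) ∧
      l₀ ≫ lK ≫ hr.fst' qO = πO := by
  let p : (yon S).obj D.V' ⟶ F := (yon S).map D.g ≫ q
  let L := hr.pullback p
  let x := hr.fst' p
  let a := hr.snd p
  have sqL := hr.isPullback' p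
  have sqK := hr.isPullback' qO
  have sqR := hq.isPullback' q
  have hp : (yon S).map πO ≫ qO = p := by rw [hqO, ← Category.assoc, ← Functor.map_comp, hg]
  -- the map to the pairs
  obtain ⟨lK, hlK⟩ := (yon S).map_surjective (sqK.lift ((yon S).map x) ((yon S).map a ≫ (yon S).map πO)
    (by rw [sqL.w, Category.assoc, hp]))
  have hlK₁ : lK ≫ hr.fst' qO = x := (yon S).map_injective (by rw [Functor.map_comp, hlK, sqK.lift_fst])
  have hlK₂ : lK ≫ hr.snd qO = a ≫ πO :=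
    (yon S).map_injective (by rw [Functor.map_comp, hlK, sqK.lift_snd, Functor.map_comp])
  have sqLam : IsPullback ((yon S).map lK) ((yon S).map a) ((yon S).map (hr.snd qO)) ((yon S).map πO) := by
    refine IsPullback.of_right (h₁₂ := (yon S).map (hr.fst' qO)) (h₂₂ := qO) (v₁₃ := qO) ?_ ?_ sqK
    · rw [← Functor.map_comp, hlK₁, hp]; exact sqL
    · rw [← Functor.map_comp, hlK₂, Functor.map_comp]
  -- the map to the base change of the chart
  have wr : (yon S).map (x ≫ gO) ≫ q = (yon S).map (a ≫ D.g) ≫ q := by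
    simp only [Functor.map_comp, Category.assoc, ← hqO]; exact sqL.w
  obtain ⟨r, hr'⟩ := (yon S).map_surjective (sqR.lift _ _ wr)
  have hr₁ : r ≫ hq.fst' q = x ≫ gO := (yon S).map_injective (by rw [Functor.map_comp, hr', sqR.lift_fst])
  have hr₂ : r ≫ hq.snd q = a ≫ D.g := (yon S).map_injective (by rw [Functor.map_comp, hr', sqR.lift_snd])
  let Ψ : L ⟶ pullback (hq.snd q) D.g := pullback.lift r a hr₂
  have hΨ₁ : Ψ ≫ pullback.fst _ _ = r := pullback.lift_fst _ _ _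
  have hΨ₂ : Ψ ≫ pullback.snd _ _ = a := pullback.lift_snd _ _ _
  have sqP := (IsPullback.of_hasPullback (hq.snd q) D.g).map (yon S)
  have sqΨ : IsPullback ((yon S).map Ψ) ((yon S).map x)
      ((yon S).map (pullback.fst (hq.snd q) D.g) ≫ (yon S).map (hq.fst' q)) ((yon S).map gO) := by
    refine IsPullback.of_right (h₁₂ := (yon S).map (pullback.snd (hq.snd q) D.g)) (h₂₂ := q) (v₁₃ := p) ?_ ?_
      (sqP.paste_horiz sqR).flip
    · rw [← Functor.map_comp, hΨ₂, ← hqO]; exact sqL.flip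
    · rw [← Functor.map_comp, ← Functor.map_comp, ← Category.assoc, hΨ₁, hr₁, Functor.map_comp]
  rw [← Functor.map_comp] at sqΨ
  have hΨE : Etale Ψ.left := MorphismProperty.of_isPullback (P := @Etale) (isPullback_left sqΨ).flip ‹_›
  -- the section
  let σ : D.V' ⟶ pullback (hq.snd q) D.g := pullback.lift (D.g ≫ e₀) (𝟙 _)
    (by rw [Category.assoc, he₂, Category.comp_id, Category.id_comp])
  have hσ₁ : σ ≫ pullback.fst _ _ = D.g ≫ e₀ := pullback.lift_fst _ _ _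
  have hσ₂ : σ ≫ pullback.snd _ _ = 𝟙 _ := pullback.lift_snd _ _ _
  have hext : ∀ {T : Over S} (u v : T ⟶ pullback (hq.snd q) D.g),
      u ≫ pullback.fst _ _ ≫ hq.fst' q = v ≫ pullback.fst _ _ ≫ hq.fst' q →
      u ≫ pullback.snd _ _ = v ≫ pullback.snd _ _ → u = v := by
    intro T u v h₁ h₂
    apply pullback.hom_ext
    · apply (yon S).map_injective
      refine sqR.hom_ext ?_ ?_
      · simp only [← Functor.map_comp, Category.assoc]; exact congrArg _ h₁
      · simp only [← Functor.map_comp, Category.assoc]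
        rw [pullback.condition, reassoc_of% h₂]
    · exact h₂
  have hmem : ∀ {T : Over S} (k : T ⟶ D.V'), (∀ z, σ.left (k.left z) ∈ D.O) ↔ D.Mem k (k ≫ D.g) := by
    intro T k
    constructor
    · intro h
      obtain ⟨l, hl⟩ := exists_lift_opens (k ≫ σ) D.O h
      refine ⟨l, ?_, ?_⟩
      · show l ≫ D.ι ≫ _ = k
        rw [← Category.assoc, show l ≫ D.ι = k ≫ σ from hl, Category.assoc, hσ₂, Category.comp_id]
      · show l ≫ D.ι ≫ _ = _
        rw [← Category.assoc, show l ≫ D.ι = k ≫ σ from hl, Category.assoc, reassoc_of% hσ₁, he₁,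
          Category.comp_id]
    · rintro ⟨l, hl₁, hl₂⟩ z
      have e : l ≫ D.ι = k ≫ σ := by
        apply hext
        · rw [Category.assoc, Category.assoc, reassoc_of% hσ₁, he₁, Category.comp_id]
          exact hl₂
        · rw [Category.assoc, Category.assoc, hσ₂, Category.comp_id]
          exact hl₁
      show (k ≫ σ).left z ∈ D.O
      rw [← e]
      exact (l.left z).2
  let O₁ : O.left.Opens := ⟨πO.left '' (σ.left ⁻¹' D.O), πO.left.isOpenMap _ (D.O.isOpen.preimage σ.left.continuous)⟩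
  have hO₁ : ∀ v, πO.left v ∈ O₁ ↔ σ.left v ∈ D.O := by
    refine fun v => ⟨?_, fun h => ⟨v, h, rfl⟩⟩
    rintro ⟨v₀, hv₀, hv⟩
    obtain ⟨w, hw₁, hw₂⟩ := exists_point_pullback πO πO v₀ v hv
    let U' := ((pullback.fst πO πO).left ≫ σ.left) ⁻¹ᵁ D.O
    let T : Over S := Over.mk (U'.ι ≫ (pullback πO πO).hom)
    let j : T ⟶ pullback πO πO := Over.homMk U'.ι
    have h₁ : D.Mem (j ≫ pullback.fst _ _) ((j ≫ pullback.fst _ _) ≫ D.g) := (hmem _).1 fun z => z.2
    obtain ⟨e, hs⟩ := (hO (j ≫ pullback.fst πO πO) (j ≫ pullback.snd πO πO)).1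
      (by rw [Category.assoc, Category.assoc, pullback.condition])
    rw [Part.Same.mem_iff D hs, e] at h₁
    have hwU : w ∈ U' := by
      show σ.left ((pullback.fst πO πO).left w) ∈ D.O
      rw [hw₁]; exact hv₀
    have := (hmem _).2 h₁ ⟨w, hwU⟩
    rw [← hw₂]
    exact this
  let A₁ := A ⊓ (hr.fst' qO).left ⁻¹ᵁ O₁
  let AV := lK.left ⁻¹ᵁ A₁
  let T₀ : Over S := Over.mk (AV.ι ≫ L.hom)
  let j : T₀ ⟶ L := Over.homMk AV.ι
  have hjm : Mono j := (Over.forget S).mono_of_mono_map (inferInstanceAs (Mono AV.ι))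
  have hxO : ∀ z : T₀.left, x.left (j.left z) ∈ O₁ := fun z => by
    rw [← hlK₁]
    exact (z.2).2
  have hsame : ∀ {T : Over S} (k : T ⟶ T₀) (b : T ⟶ D.V'), b ≫ πO = k ≫ j ≫ x → D.Same b (k ≫ j ≫ a) :=
    fun k b hb => (hA (k ≫ j ≫ lK) b (k ≫ j ≫ a) (by simp only [Category.assoc, hlK₁, hb])
      (by simp only [Category.assoc, hlK₂])).1 fun z => ((k.left z).2).1
  have hrange : ∀ z, z ∈ AV → Ψ.left z ∈ D.O := by
    intro z hz
    obtain ⟨T, c, b, hc, hc', hb⟩ := exists_lift_cover πO (j ≫ x)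
    have h₁ : D.Mem b (b ≫ D.g) := (hmem b).1 fun w => (hO₁ _).1 (by
      show πO.left (b.left w) ∈ O₁
      rw [show πO.left (b.left w) = x.left (j.left (c.left w)) from congrArg (fun f : T ⟶ O => f.left w) hb]
      exact hxO _)
    rw [Part.Same.mem_iff D (hsame c b hb)] at h₁
    obtain ⟨l, hl₁, hl₂⟩ := h₁
    have e : l ≫ D.ι = c ≫ j ≫ Ψ := by
      apply hext
      · simp only [Category.assoc]
        rw [reassoc_of% hΨ₁, hr₁]
        refine hl₂.trans ?_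
        rw [← hg, reassoc_of% hb]
      · simp only [Category.assoc]
        rw [hΨ₂]
        exact hl₁
    refine mem_opens_of_surjective c (j ≫ Ψ) D.O (fun w => ?_) ⟨z, hz⟩
    rw [← e]
    exact (l.left w).2
  have hmono : Mono (j ≫ Ψ) := by
    refine ⟨fun {T} k₁ k₂ e => ?_⟩
    have ea : k₁ ≫ j ≫ a = k₂ ≫ j ≫ a := by
      have := congrArg (· ≫ pullback.snd _ _) e
      simpa [hΨ₂] using this
    have ex : k₁ ≫ j ≫ x ≫ gO = k₂ ≫ j ≫ x ≫ gO := by
      have := congrArg (· ≫ pullback.fst _ _ ≫ hq.fst' q) e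
      simp only [Category.assoc, reassoc_of% hΨ₁, hr₁] at this
      exact this
    obtain ⟨T₁, c₁, b₁, hc₁, hc₁', hb₁⟩ := exists_lift_cover πO (k₁ ≫ j ≫ x)
    obtain ⟨T₂, c₂, b₂, hc₂, hc₂', hb₂⟩ := exists_lift_cover πO (c₁ ≫ k₂ ≫ j ≫ x)
    have h₁ := hsame (c₂ ≫ c₁ ≫ k₁) (c₂ ≫ b₁) (by simp only [Category.assoc, hb₁])
    have h₂ := hsame (c₂ ≫ c₁ ≫ k₂) b₂ (by simp only [Category.assoc, hb₂])
    simp only [Category.assoc, ea] at h₁
    simp only [Category.assoc] at h₂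
    have h₃ : (c₂ ≫ b₁) ≫ πO = b₂ ≫ πO := (hO _ _).2 ⟨by
      rw [← hg, Category.assoc, reassoc_of% hb₁, reassoc_of% hb₂, ex],
      Part.Same.trans D h₁ (Part.Same.symm D h₂)⟩
    rw [Category.assoc, hb₁, hb₂] at h₃
    have : Flat (c₂.left ≫ c₁.left) := inferInstance
    have : Surjective (c₂.left ≫ c₁.left) := inferInstance
    have := Flat.epi_of_flat_of_surjective (c₂.left ≫ c₁.left)
    have : Epi (c₂ ≫ c₁) := (Over.forget S).epi_of_epi_map ‹Epi (c₂.left ≫ c₁.left)›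
    have ex' : k₁ ≫ j ≫ x = k₂ ≫ j ≫ x := by
      rw [← cancel_epi (c₂ ≫ c₁)]
      simpa using h₃
    rw [← cancel_mono j]
    apply (yon S).map_injective
    refine sqL.hom_ext ?_ ?_
    · simp only [← Functor.map_comp, Category.assoc]; exact congrArg _ ex'
    · simp only [← Functor.map_comp, Category.assoc]; exact congrArg _ ea
  have : Mono (AV.ι ≫ Ψ.left) := (inferInstance : Mono ((Over.forget S).map (j ≫ Ψ)))
  have hopen : IsOpenImmersion (AV.ι ≫ Ψ.left) := IsOpenImmersion.of_flat_of_mono _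
  -- the identity arrows
  obtain ⟨l₀, hl₀⟩ := (yon S).map_surjective (sqL.lift ((yon S).map πO) (𝟙 _) (by rw [Category.id_comp, hp]))
  have hl₀₁ : l₀ ≫ x = πO := (yon S).map_injective (by rw [Functor.map_comp, hl₀, sqL.lift_fst])
  have hl₀₂ : l₀ ≫ a = 𝟙 _ := (yon S).map_injective (by rw [Functor.map_comp, hl₀, sqL.lift_snd, CategoryTheory.Functor.map_id])
  refine ⟨L, lK, a, Ψ, O₁, σ, l₀, isPullback_left sqLam, hO₁, hσ₁, hσ₂, hΨ₂, hopen, hrange, ?_, fun v hv => ?_,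
    by rw [hlK₁, hl₀₁]⟩
  · apply hext
    · simp only [Category.assoc]
      rw [reassoc_of% hΨ₁, hr₁, reassoc_of% hl₀₁, hg, reassoc_of% hσ₁, he₁, Category.comp_id]
    · simp only [Category.assoc]
      rw [hΨ₂, hl₀₂, hσ₂]
  · refine ⟨(hA (l₀ ≫ lK) (𝟙 _) (𝟙 _) (by rw [Category.assoc, hlK₁, hl₀₁, Category.id_comp])
      (by rw [Category.assoc, hlK₂, reassoc_of% hl₀₂, Category.id_comp])).2 (Part.same_refl D _) v, ?_⟩
    show (hr.fst' qO).left (lK.left (l₀.left v)) ∈ O₁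
    rw [show (hr.fst' qO).left (lK.left (l₀.left v)) = πO.left v from
      congrArg (fun f : D.V' ⟶ O => f.left v) (show l₀ ≫ lK ≫ hr.fst' qO = πO by rw [hlK₁, hl₀₁])]
    exact hv

end Groth.Agent.Stk19b.Fppf
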