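import Groth.Agent.Stk19b.Fppf.Part

/-!
# The etale neighbourhood divided by "same part" is a scheme
-/

set_option autoImplicit false
set_option linter.style.haveILetI false
set_option backward.isDefEq.respectTransparency.types false

universe u

open CategoryTheory CategoryTheory.Limits AlgebraicGeometry
open AlgSp

noncomputable section

namespace Groth.Agent.Stk19b.Fppf

open Groth.Agent.AlgSpLib

variable {S : Scheme.{u}} {F : Sp S} {V : Over S} {q : (yon S).obj V ⟶ F}

set_option maxHeartbeats 800000 in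
theorem exists_part_quot {hq : Representable q} (D : Part hq) (hqf : RepWith @Flat q)
    (hqp : RepWith @LocallyOfFinitePresentation q) :
    ∃ (O : Over S) (gO : O ⟶ V) (πO : D.V' ⟶ O), πO ≫ gO = D.g ∧ Etale πO.left ∧ Surjective πO.left ∧
      Etale gO.left ∧ IsSeparated gO.left ∧
      ∀ ⦃T : Over S⦄ (a b : T ⟶ D.V'), a ≫ πO = b ≫ πO ↔ (a ≫ D.g = b ≫ D.g ∧ D.Same a b) := by
  have hgE := D.etale
  let W : Over S := pullback D.g D.g
  let pa : W ⟶ D.V' := pullback.fst D.g D.g
  let pb : W ⟶ D.V' := pullback.snd D.g D.g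
  obtain ⟨G, hGc, hG⟩ := Part.exists_same_locus D hqf hqp pa pb (by
    rw [show pa ≫ D.g = pb ≫ D.g from pullback.condition])
  let R : Over S := Over.mk (G.ι ≫ W.hom)
  let j : R ⟶ W := Over.homMk G.ι
  let s : R ⟶ D.V' := j ≫ pb
  let t : R ⟶ D.V' := j ≫ pa
  have hjm : Mono j := (Over.forget S).mono_of_mono_map (inferInstanceAs (Mono G.ι))
  have hfac : ∀ {T : Over S} (a b : T ⟶ D.V'),
      (∃ r : T ⟶ R, r ≫ t = a ∧ r ≫ s = b) ↔ (a ≫ D.g = b ≫ D.g ∧ D.Same a b) := by
    intro T a b
    constructor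
    · rintro ⟨r, rfl, rfl⟩
      refine ⟨by simp only [t, s, pa, pb, Category.assoc, pullback.condition], ?_⟩
      have := (hG (r ≫ j)).2 fun x => (r.left x).2
      simpa [t, s] using this
    · rintro ⟨hg, hs⟩
      let l : T ⟶ W := pullback.lift a b hg
      have hl₁ : l ≫ pa = a := pullback.lift_fst _ _ _
      have hl₂ : l ≫ pb = b := pullback.lift_snd _ _ _
      obtain ⟨r, hr⟩ := exists_lift_opens l G ((hG l).1 (by rwa [hl₁, hl₂]))
      have hr' : r ≫ j = l := hr
      exact ⟨r, by rw [← Category.assoc, hr', hl₁], by rw [← Category.assoc, hr', hl₂]⟩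
  have sqW := (IsPullback.of_hasPullback D.g D.g).map (Over.forget S)
  have hpaE : Etale pa.left := MorphismProperty.of_isPullback (P := @Etale) sqW.flip hgE
  have hpbE : Etale pb.left := MorphismProperty.of_isPullback (P := @Etale) sqW hgE
  have hEt : IsEtaleEqvRel s t := by
    refine ⟨⟨fun T r r' h₁ h₂ => ?_, fun T => ⟨fun a => ?_, fun {a b} h => ?_, fun {a b c} h h' => ?_⟩⟩,
      inferInstanceAs (Etale (G.ι ≫ pb.left)), inferInstanceAs (Etale (G.ι ≫ pa.left))⟩
    · rw [← cancel_mono j]
      apply pullback.hom_ext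
      · simpa [t] using h₁
      · simpa [s] using h₂
    · exact (hfac a a).2 ⟨rfl, Part.same_refl D a⟩
    · obtain ⟨h₁, h₂⟩ := (hfac a b).1 h
      exact (hfac b a).2 ⟨h₁.symm, Part.Same.symm D h₂⟩
    · obtain ⟨h₁, h₂⟩ := (hfac a b).1 h
      obtain ⟨h₃, h₄⟩ := (hfac b c).1 h'
      exact (hfac a c).2 ⟨h₁.trans h₃, Part.Same.trans D h₂ h₄⟩
  let X := quotSp ((yon S).map s) ((yon S).map t)
  let π : (yon S).obj D.V' ⟶ X := quotSpπ ((yon S).map s) ((yon S).map t)
  have hX : IsAlgSpace X := isAlgSpace_quotSp hEt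
  have hpres := isPresentation_quotSp hEt
  have sqK : IsPullback ((yon S).map t) ((yon S).map s) π π := isPullback_quotSpπ (isEqvRelSp_yon hEt.toIsEqvRel)
  let gX : X ⟶ (yon S).obj V := quotSpDesc ((yon S).map D.g) (by
    rw [← Functor.map_comp, ← Functor.map_comp]
    simp only [s, t, pa, pb, Category.assoc, pullback.condition])
  have hπg : π ≫ gX = (yon S).map D.g := quotSpπ_desc _ _ _ _
  -- separatedness
  have sqW' : IsPullback ((yon S).map pa) ((yon S).map pb) (π ≫ gX) (π ≫ gX) := by
    rw [hπg]; exact (IsPullback.of_hasPullback D.g D.g).map (yon S)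
  have hGι : IsClosedImmersion j.left := by
    refine IsClosedImmersion.of_isPreimmersion G.ι ?_
    rw [Scheme.Opens.range_ι]; exact hGc
  have := isLocalAtTarget_isClosedImmersion.{u}
  have hsep : IsSeparatedMor gX := repWith_diagonal_of_cover π gX
    (RepWith.mono etale_le_flat hpres.etale) (RepWith.mono etale_le_lfp hpres.etale) hpres.surjective hX.diag
    sqK @IsClosedImmersion ((yon S).map j ≫ sqW'.isoPullback.hom)
    (by rw [Category.assoc, sqW'.isoPullback_hom_fst, ← Functor.map_comp])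
    (by rw [Category.assoc, sqW'.isoPullback_hom_snd, ← Functor.map_comp])
    (RepWith.comp ((repWith_yon_map_iff _ j).2 hGι) (repWith_of_isIso _ _))
  have hlocE : LocP @Etale gX := locP_of_chart_square etLocal_etale hX π hpres.etale hpres.surjective
    (𝟙 _) (repWith_id _ _) D.g hgE (by rw [Category.comp_id]; exact hπg)
  obtain ⟨O, ⟨e⟩⟩ := exists_iso_yon_of_lqf_separated hX gX hsep
    (locP_mono (fun _ _ k (_ : Etale k) => ⟨locallyQuasiFinite_of_etale k, inferInstance⟩) hlocE)
  obtain ⟨gO, hgO⟩ := (yon S).map_surjective (e.hom ≫ gX)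
  obtain ⟨πO, hπO⟩ := (yon S).map_surjective (π ≫ e.inv)
  refine ⟨O, gO, πO, (yon S).map_injective ?_, ?_, ?_, ?_, ?_, fun T a b => ?_⟩
  · rw [Functor.map_comp, hπO, hgO, Category.assoc, Iso.inv_hom_id_assoc, hπg]
  · exact (repWith_yon_map_iff @Etale πO).1 (by rw [hπO]; exact RepWith.comp hpres.etale (repWith_of_isIso _ _))
  · exact (repWith_yon_map_iff @Surjective πO).1 (by
      rw [hπO]; exact RepWith.comp hpres.surjective (repWith_of_isIso _ _))
  · refine locP_yon_map (P := @Etale) ?_
    rw [hgO]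
    exact locP_comp etLocal_etale (IsAlgSpace.yon_obj O) hX (IsAlgSpace.yon_obj V)
      (locP_of_repWith etLocal_etale (IsAlgSpace.yon_obj O) (repWith_of_isIso _ e.hom)) hlocE
  · exact (isSeparatedMor_yon_map_iff gO).1 (by
      rw [hgO]; exact isSeparatedMor_comp (isSeparatedMor_of_mono e.hom) hsep)
  · rw [← hfac]
    constructor
    · intro h
      have h' : (yon S).map a ≫ π = (yon S).map b ≫ π := by
        rw [← cancel_mono e.inv, Category.assoc, Category.assoc, ← hπO, ← Functor.map_comp, ← Functor.map_comp, h]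
      obtain ⟨r, hr⟩ := (yon S).map_surjective (sqK.lift _ _ h')
      exact ⟨r, (yon S).map_injective (by rw [Functor.map_comp, hr, sqK.lift_fst]),
        (yon S).map_injective (by rw [Functor.map_comp, hr, sqK.lift_snd])⟩
    · rintro ⟨r, rfl, rfl⟩
      apply (yon S).map_injective
      simp only [Functor.map_comp, hπO, Category.assoc]
      rw [reassoc_of% sqK.w]

end Groth.Agent.Stk19b.Fppf
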