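import Groth.Agent.Stk19b.Fppf.PartQuot

/-!
# The relation "same part" on the quotient of the neighbourhood
-/

set_option autoImplicit false
set_option linter.style.haveILetI false
set_option backward.isDefEq.respectTransparency.types false

universe u

open CategoryTheory CategoryTheory.Limits AlgebraicGeometry
open AlgSp

noncomputable section

namespace Groth.Agent.Stk19b.Fppf

open Groth.Agent.AlgSpLib

variable {S : Scheme.{u}} {F : Sp S} {V : Over S} {q : (yon S).obj V ⟶ F}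

theorem exists_lift_cover {U O T : Over S} (π : U ⟶ O) [Flat π.left] [Surjective π.left] (x : T ⟶ O) :
    ∃ (T' : Over S) (c : T' ⟶ T) (a : T' ⟶ U), Flat c.left ∧ Surjective c.left ∧ a ≫ π = c ≫ x := by
  have sq := (IsPullback.of_hasPullback x π).map (Over.forget S)
  exact ⟨_, pullback.fst x π, pullback.snd x π,
    MorphismProperty.of_isPullback (P := @Flat) sq.flip ‹Flat π.left›,
    MorphismProperty.of_isPullback (P := @Surjective) sq.flip ‹Surjective π.left›, pullback.condition.symm⟩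

theorem mem_opens_of_surjective {T' T K : Over S} (c : T' ⟶ T) [Surjective c.left] (l : T ⟶ K) (A : K.left.Opens)
    (h : ∀ x, (c ≫ l).left x ∈ A) (x : ↥T.left) : l.left x ∈ A := by
  obtain ⟨x', rfl⟩ := c.left.surjective x
  exact h x'

variable {hq : Representable q} (D : Part hq) {O : Over S} (gO : O ⟶ V) (πO : D.V' ⟶ O)

theorem exists_rel_locus (hqf : RepWith @Flat q) (hqp : RepWith @LocallyOfFinitePresentation q)
    [Etale πO.left] [Surjective πO.left] (hg : πO ≫ gO = D.g)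
    (hO : ∀ ⦃T : Over S⦄ (a b : T ⟶ D.V'), a ≫ πO = b ≫ πO ↔ (a ≫ D.g = b ≫ D.g ∧ D.Same a b))
    (qO : (yon S).obj O ⟶ F) (hqO : qO = (yon S).map gO ≫ q) (hr : Representable qO) :
    ∃ A : (hr.pullback qO).left.Opens,
      (∀ ⦃T : Over S⦄ (l : T ⟶ hr.pullback qO) (a b : T ⟶ D.V'), a ≫ πO = l ≫ hr.fst' qO →
        b ≫ πO = l ≫ hr.snd qO → ((∀ x, l.left x ∈ A) ↔ D.Same a b)) ∧
      IsEqvRel ((Over.homMk A.ι : Over.mk (A.ι ≫ (hr.pullback qO).hom) ⟶ hr.pullback qO) ≫ hr.snd qO)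
        ((Over.homMk A.ι : Over.mk (A.ι ≫ (hr.pullback qO).hom) ⟶ hr.pullback qO) ≫ hr.fst' qO) := by
  let K := hr.pullback qO
  let kt := hr.fst' qO
  let ks := hr.snd qO
  have sqK := hr.isPullback' qO
  let K₁ : Over S := pullback kt πO
  let p₁ : K₁ ⟶ K := pullback.fst kt πO
  let K₂ : Over S := pullback (p₁ ≫ ks) πO
  let p₂ : K₂ ⟶ K₁ := pullback.fst (p₁ ≫ ks) πO
  let ρ : K₂ ⟶ K := p₂ ≫ p₁
  let a : K₂ ⟶ D.V' := p₂ ≫ pullback.snd kt πO
  let b : K₂ ⟶ D.V' := pullback.snd (p₁ ≫ ks) πO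
  have ha : a ≫ πO = ρ ≫ kt := by simp only [a, ρ, p₁, Category.assoc, pullback.condition]
  have hb : b ≫ πO = ρ ≫ ks := by
    simp only [b, ρ, Category.assoc]
    exact pullback.condition.symm
  have hFl : ∀ ⦃T : Over S⦄ (l : T ⟶ K) (a b : T ⟶ D.V'), a ≫ πO = l ≫ kt → b ≫ πO = l ≫ ks →
      (yon S).map (a ≫ D.g) ≫ q = (yon S).map (b ≫ D.g) ≫ q := fun T l a b ha hb => by
    rw [← hg, ← Category.assoc, ← Category.assoc, ha, hb]
    simp only [Functor.map_comp, Category.assoc]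
    rw [← hqO, sqK.w]
  have hE₁ : Etale p₁.left :=
    MorphismProperty.of_isPullback (P := @Etale) ((IsPullback.of_hasPullback kt πO).map (Over.forget S)).flip ‹_›
  have hE₂ : Etale p₂.left :=
    MorphismProperty.of_isPullback (P := @Etale)
      ((IsPullback.of_hasPullback (p₁ ≫ ks) πO).map (Over.forget S)).flip ‹_›
  have hS₁ : Surjective p₁.left :=
    MorphismProperty.of_isPullback (P := @Surjective) ((IsPullback.of_hasPullback kt πO).map (Over.forget S)).flip ‹_›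
  have hS₂ : Surjective p₂.left :=
    MorphismProperty.of_isPullback (P := @Surjective)
      ((IsPullback.of_hasPullback (p₁ ≫ ks) πO).map (Over.forget S)).flip ‹_›
  have : Etale ρ.left := inferInstanceAs (Etale (p₂.left ≫ p₁.left))
  have : Surjective ρ.left := inferInstanceAs (Surjective (p₂.left ≫ p₁.left))
  obtain ⟨G, -, hG⟩ := Part.exists_same_locus D hqf hqp a b (hFl ρ a b ha hb)
  let A : K.left.Opens := ⟨ρ.left '' G, ρ.left.isOpenMap _ G.isOpen⟩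
  have hinv : ∀ z, ρ.left z ∈ A → z ∈ G := by
    rintro z ⟨z₀, hz₀, hz⟩
    obtain ⟨w, hw₁, hw₂⟩ := exists_point_pullback ρ ρ z₀ z hz
    let O' := (pullback.fst ρ ρ).left ⁻¹ᵁ G
    let T : Over S := Over.mk (O'.ι ≫ (pullback ρ ρ).hom)
    let j : T ⟶ pullback ρ ρ := Over.homMk O'.ι
    let l₁ := j ≫ pullback.fst ρ ρ
    let l₂ := j ≫ pullback.snd ρ ρ
    have e : l₁ ≫ ρ = l₂ ≫ ρ := by simp only [l₁, l₂, Category.assoc, pullback.condition]
    have h₁ : D.Same (l₁ ≫ a) (l₁ ≫ b) := (hG l₁).2 fun x => x.2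
    have ea : (l₁ ≫ a) ≫ πO = (l₂ ≫ a) ≫ πO := by
      rw [Category.assoc l₁, Category.assoc l₂, ha, reassoc_of% e]
    have eb : (l₁ ≫ b) ≫ πO = (l₂ ≫ b) ≫ πO := by
      rw [Category.assoc l₁, Category.assoc l₂, hb, reassoc_of% e]
    have h₂ : D.Same (l₂ ≫ a) (l₂ ≫ b) :=
      Part.Same.trans D (Part.Same.symm D ((hO _ _).1 ea).2) (Part.Same.trans D h₁ ((hO _ _).1 eb).2)
    have hwO : w ∈ O' := by
      show (pullback.fst ρ ρ).left w ∈ G
      rw [hw₁]; exact hz₀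
    have := (hG l₂).1 h₂ ⟨w, hwO⟩
    rw [← hw₂]
    exact this
  have hA : ∀ ⦃T : Over S⦄ (l : T ⟶ K) (a' b' : T ⟶ D.V'), a' ≫ πO = l ≫ kt →
      b' ≫ πO = l ≫ ks → ((∀ x, l.left x ∈ A) ↔ D.Same a' b') := by
    intro T l a' b' ha' hb'
    let l₁ : T ⟶ K₁ := pullback.lift l a' ha'.symm
    have hl₁ : l₁ ≫ p₁ = l := pullback.lift_fst _ _ _
    let l₂ : T ⟶ K₂ := pullback.lift l₁ b' (by rw [reassoc_of% hl₁, hb'])
    have hl₂ : l₂ ≫ p₂ = l₁ := pullback.lift_fst _ _ _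
    have hla : l₂ ≫ a = a' := by
      simp only [a]; rw [reassoc_of% hl₂]; exact pullback.lift_snd _ _ _
    have hlb : l₂ ≫ b = b' := pullback.lift_snd _ _ _
    have hlρ : l₂ ≫ ρ = l := by simp only [ρ]; rw [reassoc_of% hl₂, hl₁]
    rw [← hla, ← hlb, hG l₂]
    refine forall_congr' fun x => ?_
    rw [← hlρ]
    exact ⟨fun h => hinv _ h, fun h => ⟨_, h, rfl⟩⟩
  refine ⟨A, hA, ?_⟩
  let R : Over S := Over.mk (A.ι ≫ K.hom)
  let j : R ⟶ K := Over.homMk A.ι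
  have : Mono j := (Over.forget S).mono_of_mono_map (inferInstanceAs (Mono A.ι))
  have hfac : ∀ {T : Over S} (l : T ⟶ K), (∀ x, l.left x ∈ A) → ∃ r : T ⟶ R, r ≫ j = l :=
    fun l hl => exists_lift_opens l A hl
  have hlift : ∀ {T : Over S} (x y : T ⟶ O), (yon S).map x ≫ qO = (yon S).map y ≫ qO →
      ∃ l : T ⟶ K, l ≫ kt = x ∧ l ≫ ks = y := fun x y h => by
    obtain ⟨l, hl⟩ := (yon S).map_surjective (sqK.lift _ _ h)
    exact ⟨l, (yon S).map_injective (by rw [Functor.map_comp, hl, sqK.lift_fst]),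
      (yon S).map_injective (by rw [Functor.map_comp, hl, sqK.lift_snd])⟩
  have hF' : ∀ {T : Over S} (l : T ⟶ K), (yon S).map (l ≫ kt) ≫ qO = (yon S).map (l ≫ ks) ≫ qO := fun l => by
    simp only [Functor.map_comp, Category.assoc]; rw [sqK.w]
  refine ⟨fun T r r' h₁ h₂ => ?_, fun T => ⟨fun x => ?_, fun {x y} h => ?_, fun {x y z} h h' => ?_⟩⟩
  · rw [← cancel_mono j]
    apply (yon S).map_injective
    refine sqK.hom_ext ?_ ?_
    · simp only [← Functor.map_comp, Category.assoc]; exact congrArg _ h₁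
    · simp only [← Functor.map_comp, Category.assoc]; exact congrArg _ h₂
  · obtain ⟨l, hl₁, hl₂⟩ := hlift x x rfl
    obtain ⟨T', c, e, hc₁, hc₂, he⟩ := exists_lift_cover πO x
    obtain ⟨r, hr'⟩ := hfac l (mem_opens_of_surjective c l A ((hA (c ≫ l) e e
      (by rw [Category.assoc, hl₁, he]) (by rw [Category.assoc, hl₂, he])).2 (Part.same_refl D e)))
    exact ⟨r, by rw [← Category.assoc, hr', hl₁], by rw [← Category.assoc, hr', hl₂]⟩
  · obtain ⟨r, rfl, rfl⟩ := h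
    obtain ⟨l, hl₁, hl₂⟩ := hlift ((r ≫ j) ≫ ks) ((r ≫ j) ≫ kt) (hF' (r ≫ j)).symm
    obtain ⟨T₁, c₁, e₁, hc₁, hc₁', he₁⟩ := exists_lift_cover πO ((r ≫ j) ≫ kt)
    obtain ⟨T₂, c₂, e₂, hc₂, hc₂', he₂⟩ := exists_lift_cover πO (c₁ ≫ (r ≫ j) ≫ ks)
    have : Surjective (c₂ ≫ c₁).left := inferInstanceAs (Surjective (c₂.left ≫ c₁.left))
    have h1 : D.Same (c₂ ≫ e₁) e₂ := (hA ((c₂ ≫ c₁) ≫ r ≫ j) _ _
      (by simp only [Category.assoc, he₁]) (by simp only [Category.assoc, he₂])).1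
      fun x => (((c₂ ≫ c₁) ≫ r).left x).2
    obtain ⟨r', hr'⟩ := hfac l (mem_opens_of_surjective (c₂ ≫ c₁) l A ((hA _ e₂ (c₂ ≫ e₁)
      (by simp only [Category.assoc, hl₁, he₂]) (by simp only [Category.assoc, hl₂, he₁])).2
      (Part.Same.symm D h1)))
    exact ⟨r', by rw [← Category.assoc, hr', hl₁]; simp only [Category.assoc]; rfl,
      by rw [← Category.assoc, hr', hl₂]; simp only [Category.assoc]; rfl⟩
  · obtain ⟨r, rfl, hry⟩ := h
    obtain ⟨r₂, hr₂, rfl⟩ := h'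
    have hy : (r ≫ j) ≫ ks = (r₂ ≫ j) ≫ kt := by
      simp only [Category.assoc]; exact hry.trans hr₂.symm
    obtain ⟨l, hl₁, hl₂⟩ := hlift ((r ≫ j) ≫ kt) ((r₂ ≫ j) ≫ ks) (by rw [hF' (r ≫ j), hy, hF' (r₂ ≫ j)])
    obtain ⟨T₁, c₁, e₁, hc₁, hc₁', he₁⟩ := exists_lift_cover πO ((r ≫ j) ≫ kt)
    obtain ⟨T₂, c₂, e₂, hc₂, hc₂', he₂⟩ := exists_lift_cover πO (c₁ ≫ (r ≫ j) ≫ ks)
    obtain ⟨T₃, c₃, e₃, hc₃, hc₃', he₃⟩ := exists_lift_cover πO (c₂ ≫ c₁ ≫ (r₂ ≫ j) ≫ ks)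
    let c := c₃ ≫ c₂ ≫ c₁
    have : Surjective c.left := inferInstanceAs (Surjective (c₃.left ≫ c₂.left ≫ c₁.left))
    have h1 : D.Same (c₃ ≫ c₂ ≫ e₁) (c₃ ≫ e₂) := (hA (c ≫ r ≫ j) _ _
      (by simp only [c, Category.assoc, he₁]) (by simp only [c, Category.assoc, he₂])).1
      fun x => ((c ≫ r).left x).2
    have h2 : D.Same (c₃ ≫ e₂) e₃ := (hA (c ≫ r₂ ≫ j) _ _
      (by simp only [c, Category.assoc, he₂]; simp only [Category.assoc] at hy; rw [hy])
      (by simp only [c, Category.assoc, he₃])).1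
      fun x => ((c ≫ r₂).left x).2
    obtain ⟨r', hr'⟩ := hfac l (mem_opens_of_surjective c l A ((hA _ (c₃ ≫ c₂ ≫ e₁) e₃
      (by simp only [c, Category.assoc, hl₁, he₁]) (by simp only [c, Category.assoc, hl₂, he₃])).2
      (Part.Same.trans D h1 h2)))
    exact ⟨r', by rw [← Category.assoc, hr', hl₁]; simp only [Category.assoc]; rfl,
      by rw [← Category.assoc, hr', hl₂]; simp only [Category.assoc]; rfl⟩

end Groth.Agent.Stk19b.Fppf
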