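import Groth.Agent.S9613
import Groth.Agent.FlatMorSlice.Slice
import Mathlib.RingTheory.Flat.TorsionFree
import Mathlib.RingTheory.Spectrum.Prime.Chevalley
import Mathlib.RingTheory.Ideal.GoingDown
import Mathlib.FieldTheory.Separable
import Mathlib.FieldTheory.IsAlgClosed.AlgebraicClosure
import Mathlib.RingTheory.Polynomial.Basic
import Mathlib.RingTheory.AlgebraicIndependent.Basic

/-!
# Discreteness of fibres of fibres for a monomorphism into a product (algebra)
-/

universe u

set_option autoImplicit false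
set_option linter.style.haveILetI false

open Polynomial TensorProduct

namespace Groth.Agent.Stk19b.Fppf

/-- a subfield of a finitely generated domain over a field is algebraic -/
theorem isAlgebraic_of_field_hom {k D K : Type u} [Field k] [CommRing D] [IsDomain D] [Algebra k D]
    [Algebra.FiniteType k D] [Field K] (φ : K →+* D) (c : K) : IsAlgebraic k (φ c) := by
  classical
  by_contra htr
  let x : D := φ c
  letI : Algebra k[X] D := (aeval x).toRingHom.toAlgebra
  haveI : IsScalarTower k k[X] D := .of_algebraMap_eq fun r => ((aeval x).commutes r).symm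
  have hinj : Function.Injective (algebraMap k[X] D) :=
    transcendental_iff_injective.1 htr
  haveI : Algebra.FiniteType k[X] D := Algebra.FiniteType.of_restrictScalars_finiteType k _ D
  haveI : Algebra.FinitePresentation k[X] D := Algebra.FinitePresentation.of_finiteType.1 inferInstance
  haveI : FaithfulSMul k[X] D := (faithfulSMul_iff_algebraMap_injective _ _).2 hinj
  haveI : Module.IsTorsionFree k[X] D := inferInstance
  haveI : Module.Flat k[X] D := IsDedekindDomain.flat_iff_torsion_eq_bot.2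
    (Submodule.isTorsionFree_iff_torsion_eq_bot.1 inferInstance)
  haveI : Algebra.HasGoingDown k[X] D := Algebra.HasGoingDown.of_flat
  have hopen := (PrimeSpectrum.isOpenMap_comap_of_hasGoingDown_of_finitePresentation (R := k[X])
    (S := D)).isOpen_range
  have hne : (⊥ : Ideal k[X]) = (⊥ : Ideal D).comap (algebraMap k[X] D) := by
    rw [← RingHom.ker_eq_comap_bot, (RingHom.injective_iff_ker_eq_bot _).1 hinj]
  obtain ⟨_, ⟨_, ⟨h, rfl⟩, rfl⟩, hh, hsub⟩ :=
    PrimeSpectrum.isBasis_basic_opens.exists_subset_of_mem_open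
      (Set.mem_range_self (f := PrimeSpectrum.comap (algebraMap k[X] D))
        (⟨⊥, Ideal.isPrime_bot⟩ : PrimeSpectrum D)) hopen
  have hh0 : h ≠ 0 := fun e => hh (by
    show h ∈ (⊥ : Ideal D).comap (algebraMap k[X] D)
    rw [e]; exact zero_mem _)
  let Ω := AlgebraicClosure k
  let rts : Finset Ω := (h.aroots Ω).toFinset
  obtain ⟨ℓ, hℓ, hℓp⟩ := Nat.exists_infinite_primes (rts.card + ringChar k + 2)
  have hℓk : (ℓ : k) ≠ 0 := fun e => by
    have hd : ringChar k ∣ ℓ := (ringChar.spec k ℓ).1 e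
    rcases (Nat.dvd_prime hℓp).1 hd with h1 | h1
    · exact CharP.ringChar_ne_one h1
    · omega
  have hsep : (X ^ ℓ - C (1 : Ω)).Separable := by
    refine separable_X_pow_sub_C _ ?_ one_ne_zero
    rw [← map_natCast (algebraMap k Ω)]
    exact (_root_.map_ne_zero _).2 hℓk
  have hcard : ((X ^ ℓ - C (1 : Ω)).roots.toFinset).card = ℓ := by
    rw [Multiset.toFinset_card_of_nodup (nodup_roots hsep), IsAlgClosed.card_roots_eq_natDegree,
      natDegree_X_pow_sub_C]
  have hnle : ¬ (X ^ ℓ - C (1 : Ω)).roots.toFinset ⊆ rts := fun hle => by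
    have := Finset.card_le_card hle
    omega
  obtain ⟨ω, hω, hωr⟩ := Finset.not_subset.1 hnle
  have hω1 : ω ^ ℓ = 1 := by
    have := (mem_roots'.1 (Multiset.mem_toFinset.1 hω)).2
    simpa [IsRoot, sub_eq_zero] using this
  let q : PrimeSpectrum k[X] := ⟨RingHom.ker (aeval ω : k[X] →ₐ[k] Ω), RingHom.ker_isPrime _⟩
  have hq : q ∈ PrimeSpectrum.basicOpen h := fun hmem =>
    hωr (Multiset.mem_toFinset.2 (mem_aroots.2 ⟨hh0, RingHom.mem_ker.1 hmem⟩))
  obtain ⟨Q, hQ⟩ := hsub hq
  have hmem : (X ^ ℓ - 1 : k[X]) ∈ q.asIdeal := RingHom.mem_ker.2 (by simp [hω1])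
  rw [← hQ] at hmem
  have hc : c ^ ℓ - 1 ≠ 0 := fun e => htr ⟨X ^ ℓ - 1, fun e' => by
      have := congrArg (fun P : k[X] => P.coeff ℓ) e'
      simp [coeff_one, hℓp.ne_zero] at this,
    by
      have := congrArg φ (sub_eq_zero.1 e)
      simp only [map_pow, map_one] at this
      simp [this]⟩
  refine Q.2.ne_top (Ideal.eq_top_of_isUnit_mem _ hmem ?_)
  have he : algebraMap k[X] D (X ^ ℓ - 1) = φ (c ^ ℓ - 1) := by
    show aeval x (X ^ ℓ - 1 : k[X]) = _
    simp [x]
  rw [he]
  exact (IsUnit.mk0 _ hc).map φ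

/-- a field extension in which two sets of generators are algebraic is algebraic -/
theorem isAlgebraic_of_epi {k L : Type u} [Field k] [Field L] [Algebra k L] {B : Type u} [CommRing B]
    (β : B →+* L) {C : Type u} [CommRing C] (χ : C →+* B) (hχ : ∀ c, IsAlgebraic k (β (χ c)))
    {A : Type u} [CommRing A] (α : A →+* B) (hα : ∀ a, IsAlgebraic k (β (α a)))
    (hmono : ∀ (Ω : Type u) [CommRing Ω] (β₁ β₂ : B →+* Ω), β₁.comp χ = β₂.comp χ →
      β₁.comp α = β₂.comp α → β₁ = β₂) (b : B) : IsAlgebraic k (β b) := by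
  let E := algebraicClosure k L
  have key : ∀ y : L, IsAlgebraic k y → (y ⊗ₜ[E] (1 : L)) = (1 : L) ⊗ₜ[E] y := fun y hy => by
    have : y = algebraMap E L ⟨y, (mem_algebraicClosure_iff).2 hy⟩ := rfl
    rw [this, Algebra.algebraMap_eq_smul_one, TensorProduct.smul_tmul]
  have e := hmono (L ⊗[E] L) (Algebra.TensorProduct.includeLeftRingHom.comp β)
    ((Algebra.TensorProduct.includeRight (R := E) (A := L) (B := L)).toRingHom.comp β)
    (RingHom.ext fun c => key _ (hχ c)) (RingHom.ext fun a => key _ (hα a))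
  have eb : β b ⊗ₜ[E] (1 : L) = (1 : L) ⊗ₜ[E] β b := RingHom.congr_fun e b
  by_contra hb
  have hbE : β b ∉ E := fun h => hb ((mem_algebraicClosure_iff).1 h)
  have hx : β b ∉ Submodule.span E {(1 : L)} := fun h => by
    obtain ⟨r, hr⟩ := Submodule.mem_span_singleton.1 h
    exact hbE (hr ▸ by rw [Algebra.smul_def, mul_one]; exact r.2)
  obtain ⟨f, hfx, hf⟩ := Submodule.exists_dual_map_eq_bot_of_notMem hx inferInstance
  have hf1 : f 1 = 0 := by
    have : f 1 ∈ (Submodule.span E {(1 : L)}).map f := ⟨1, Submodule.mem_span_singleton_self _, rfl⟩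
    rwa [hf, Submodule.mem_bot] at this
  have h2 := congrArg (fun t => TensorProduct.lid E L (LinearMap.rTensor L f t)) eb
  simp only [LinearMap.rTensor_tmul, TensorProduct.lid_tmul, hf1, zero_smul] at h2
  exact hfx (Subtype.ext (by simpa [Algebra.smul_def] using h2))

variable {A B C : Type u} [CommRing A] [CommRing B] [CommRing C] [Algebra A B] [Algebra C B]

/-- primes over a maximal ideal of the base with the same closed image on the other factor do not specialise -/
theorem eq_of_le_of_mono [Algebra.FiniteType A B] [Algebra.FiniteType C B]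
    (hmono : ∀ (Ω : Type u) [CommRing Ω] (β₁ β₂ : B →+* Ω),
      β₁.comp (algebraMap C B) = β₂.comp (algebraMap C B) →
      β₁.comp (algebraMap A B) = β₂.comp (algebraMap A B) → β₁ = β₂)
    (P m : Ideal B) [P.IsPrime] [m.IsMaximal] (hPm : P ≤ m)
    [hp : (m.comap (algebraMap A B)).IsMaximal]
    (hPA : P.comap (algebraMap A B) = m.comap (algebraMap A B))
    (hPC : P.comap (algebraMap C B) = m.comap (algebraMap C B)) : P = m := by
  classical
  let p := m.comap (algebraMap A B)
  let pc := m.comap (algebraMap C B)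
  letI : Field (A ⧸ p) := Ideal.Quotient.field p
  letI : Field (B ⧸ m) := Ideal.Quotient.field m
  letI : Algebra (A ⧸ p) (B ⧸ P) :=
    (Ideal.quotientMap P (algebraMap A B) hPA.ge).toAlgebra
  haveI : IsScalarTower A (A ⧸ p) (B ⧸ P) := .of_algebraMap_eq fun _ => rfl
  haveI : Algebra.FiniteType (A ⧸ p) (B ⧸ P) := Algebra.FiniteType.of_restrictScalars_finiteType A _ _
  -- the image in the second factor is locally closed
  letI : Algebra (C ⧸ pc) (B ⧸ m) := (Ideal.quotientMap m (algebraMap C B) le_rfl).toAlgebra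
  haveI : IsScalarTower C (C ⧸ pc) (B ⧸ m) := .of_algebraMap_eq fun _ => rfl
  haveI : Algebra.FiniteType (C ⧸ pc) (B ⧸ m) := Algebra.FiniteType.of_restrictScalars_finiteType C _ _
  obtain ⟨f, hf, Rf, hloc, hfield, -⟩ := Groth.Agent.S9613.result (R := C ⧸ pc) (K := B ⧸ m)
    (Ideal.quotientMap_injective)
  letI : Field Rf := hfield.toField
  let χP : C ⧸ pc →+* B ⧸ P := Ideal.quotientMap P (algebraMap C B) hPC.ge
  have hfP : χP f ≠ 0 := fun e => hf ((Ideal.quotientMap_injective' hPC.le) (e.trans (map_zero _).symm))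
  let D := Localization.Away (χP f)
  haveI : IsDomain D := IsLocalization.isDomain_of_le_nonZeroDivisors _
    (powers_le_nonZeroDivisors_of_noZeroDivisors hfP)
  haveI : Algebra.FinitePresentation (B ⧸ P) D := IsLocalization.Away.finitePresentation (χP f)
  haveI : Algebra.FiniteType (A ⧸ p) D := Algebra.FiniteType.trans ‹Algebra.FiniteType (A ⧸ p) (B ⧸ P)› inferInstance
  let φ : Rf →+* D := IsLocalization.Away.lift f (g := (algebraMap (B ⧸ P) D).comp χP)
    (IsLocalization.Away.algebraMap_isUnit (χP f))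
  let L := FractionRing (B ⧸ P)
  let i : D →ₐ[A ⧸ p] L := IsLocalization.liftAlgHom (A := A ⧸ p) (M := Submonoid.powers (χP f))
    (f := IsScalarTower.toAlgHom (A ⧸ p) (B ⧸ P) L) fun y => by
      refine IsUnit.mk0 _ fun e => ?_
      obtain ⟨n, hn⟩ := y.2
      refine pow_ne_zero n hfP ((IsFractionRing.injective (B ⧸ P) L) ?_)
      rw [map_zero, ← e]
      exact congrArg (algebraMap (B ⧸ P) L) hn
  have hχ : ∀ c, IsAlgebraic (A ⧸ p) (algebraMap (B ⧸ P) L (Ideal.Quotient.mk P (algebraMap C B c))) := by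
    intro c
    have h := (isAlgebraic_of_field_hom (k := A ⧸ p) φ (algebraMap (C ⧸ pc) Rf (Ideal.Quotient.mk pc c))).algHom i
    rwa [IsLocalization.Away.lift_eq, IsLocalization.liftAlgHom_apply, RingHom.comp_apply,
      IsLocalization.lift_eq] at h
  have hα : ∀ a, IsAlgebraic (A ⧸ p) (algebraMap (B ⧸ P) L (Ideal.Quotient.mk P (algebraMap A B a))) := fun a => by
    have := isAlgebraic_algebraMap (A := L) (Ideal.Quotient.mk p a)
    rwa [IsScalarTower.algebraMap_apply (A ⧸ p) (B ⧸ P) L] at this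
  refine (le_antisymm hPm fun y hy => by_contra fun hyP => ?_)
  have halg : IsAlgebraic (A ⧸ p) (algebraMap (B ⧸ P) L (Ideal.Quotient.mk P y)) :=
    isAlgebraic_of_epi ((algebraMap (B ⧸ P) L).comp (Ideal.Quotient.mk P)) (algebraMap C B) hχ
      (algebraMap A B) hα hmono y
  have halg' : IsAlgebraic (A ⧸ p) (Ideal.Quotient.mk P y) :=
    (isAlgebraic_algHom_iff (IsScalarTower.toAlgHom (A ⧸ p) (B ⧸ P) L) (IsFractionRing.injective _ _)).1 halg
  obtain ⟨r, hr, hdvd⟩ := IsAlgebraic.exists_nonzero_dvd halg'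
    (mem_nonZeroDivisors_of_ne_zero fun e => hyP (Ideal.Quotient.eq_zero_iff_mem.1 e))
  have hu : IsUnit (Ideal.Quotient.mk P y) :=
    isUnit_of_dvd_unit hdvd ((IsUnit.mk0 r hr).map (algebraMap (A ⧸ p) (B ⧸ P)))
  have := hu.map (Ideal.Quotient.factor hPm)
  rw [Ideal.Quotient.factor_mk, Ideal.Quotient.eq_zero_iff_mem.2 hy] at this
  exact not_isUnit_zero this

end Groth.Agent.Stk19b.Fppf
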